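import Cfsg.Agent.Lib.Spor.MTwentyFourIso.SubTwentyFour
import Cfsg.Agent.Lib.Spor.MathieuOut
import Cfsg.Agent.Lib.Spor.MathieuTwentyFourCounts
import Cfsg.Agent.Lib.Spor.SteinerUnique
import Cfsg.Agent.Lib.Spor.MTwentyThreeNse.ModelPoints

/-!
A simple group with a subgroup of index twenty-four isomorphic to the Mathieu group of degree twenty-three
permutes the blocks of a Steiner system, so it is the Mathieu group of degree twenty-four.
-/

set_option autoImplicit false
set_option linter.unusedSectionVars false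
set_option linter.style.haveILetI false
set_option maxRecDepth 100000
set_option maxHeartbeats 1000000

namespace Cfsg.Agent.MTwentyFour.Iso

open Cfsg Cfsg.Agent.Spor
open Cfsg.Agent.MTwentyThree.Nse (mem_m23)
open scoped Pointwise

universe u

local instance fact23_ext : Fact (Nat.Prime 23) := ⟨by norm_num⟩
local instance fact11_ext : Fact (Nat.Prime 11) := ⟨by norm_num⟩
local instance fact7_ext : Fact (Nat.Prime 7) := ⟨by norm_num⟩

theorem mem_fixPts {σ : Equiv.Perm GolayPt} {x : GolayPt} : x ∈ fixSet σ ↔ σ x = x := by simp [fixSet]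

/-- The size of an invariant set is congruent to the number of its fixed points. -/
theorem card_invariant_mod {α : Type*} [DecidableEq α] {p : ℕ} [Fact p.Prime] (σ : Equiv.Perm α) (hσ : σ ^ p = 1)
    (O : Finset α) (hO : ∀ x, σ x ∈ O ↔ x ∈ O) : O.card % p = (O.filter fun x => σ x = x).card % p := by
  have hτ : (σ.subtypePerm hO : Equiv.Perm {x // x ∈ O}) ^ p ^ 1 = 1 := by
    rw [pow_one]
    simp [Equiv.Perm.subtypePerm_pow, hσ]
    rfl
  have h := Equiv.Perm.card_compl_support_modEq hτ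
  have e : ((σ.subtypePerm hO : Equiv.Perm {x // x ∈ O}).supportᶜ).card = (O.filter fun x => σ x = x).card := by
    refine Finset.card_bij (fun x _ => (x : α)) (fun x hx => ?_) (fun x _ y _ h => Subtype.ext h) fun x hx => ?_
    · simp only [Finset.mem_compl, Equiv.Perm.mem_support, not_not] at hx
      exact Finset.mem_filter.2 ⟨x.2, congrArg Subtype.val hx⟩
    · obtain ⟨h1, h2⟩ := Finset.mem_filter.1 hx
      refine ⟨⟨x, h1⟩, ?_, rfl⟩
      simp only [Finset.mem_compl, Equiv.Perm.mem_support, not_not]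
      exact Subtype.ext h2
  rw [e, Fintype.card_coe] at h
  exact h.symm

theorem orderOf_coe_m24 {σ : Equiv.Perm GolayPt} (hσ : σ ∈ M24) : orderOf (⟨σ, hσ⟩ : ↥M24) = orderOf σ :=
  (Subgroup.orderOf_coe _).symm

/-- A subgroup of index twenty-three of the point stabiliser fixes another point. -/
theorem exists_fixed_point (H : Subgroup ↥Spor.M23) (h11 : 11 ∣ Nat.card H) (h7 : 7 ∣ Nat.card H)
    (h23 : ¬ 23 ∣ Nat.card H) :
    ∃ p : GolayPt, p ≠ none ∧ ∀ h : ↥Spor.M23, h ∈ H → (h : Equiv.Perm GolayPt) p = p := by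
  classical
  obtain ⟨⟨u, huH⟩, hu⟩ := exists_prime_orderOf_dvd_card' (G := H) 11 h11
  obtain ⟨⟨v, hvH⟩, hv⟩ := exists_prime_orderOf_dvd_card' (G := H) 7 h7
  rw [Subgroup.orderOf_mk] at hu hv
  set σ : Equiv.Perm GolayPt := (u : Equiv.Perm GolayPt) with hσdef
  set τ : Equiv.Perm GolayPt := (v : Equiv.Perm GolayPt) with hτdef
  have hσ : orderOf σ = 11 := by rw [hσdef, Subgroup.orderOf_coe, hu]
  have hτ : orderOf τ = 7 := by rw [hτdef, Subgroup.orderOf_coe, hv]
  have hσm := mem_m23.1 u.2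
  have hτm := mem_m23.1 v.2
  have hσfix : (fixSet σ).card = 2 :=
    M24Block.fix_eq (g := ⟨σ, hσm.1⟩) (p := 11) (by tauto) (by rw [orderOf_coe_m24, hσ])
  have hτfix : (fixSet τ).card = 3 :=
    M24Block.fix_eq (g := ⟨τ, hτm.1⟩) (p := 7) (by tauto) (by rw [orderOf_coe_m24, hτ])
  have hnone : (none : GolayPt) ∈ fixSet σ := mem_fixPts.2 hσm.2
  obtain ⟨q, hq⟩ : ∃ q, (fixSet σ).erase none = {q} :=
    Finset.card_eq_one.1 (by rw [Finset.card_erase_of_mem hnone, hσfix])
  have hqmem : q ∈ (fixSet σ).erase none := by rw [hq]; exact Finset.mem_singleton_self q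
  obtain ⟨hqn, hqσ⟩ := Finset.mem_erase.1 hqmem
  refine ⟨q, hqn, ?_⟩
  set O : Finset GolayPt := Finset.univ.filter fun x => ∃ h ∈ H, (h : Equiv.Perm GolayPt) q = x with hOdef
  have hmemO : ∀ x, x ∈ O ↔ ∃ h ∈ H, (h : Equiv.Perm GolayPt) q = x := fun x => by simp [hOdef]
  have hOinv : ∀ (a : ↥Spor.M23), a ∈ H → ∀ x, (a : Equiv.Perm GolayPt) x ∈ O ↔ x ∈ O := by
    intro a ha x
    rw [hmemO, hmemO]
    constructor
    · rintro ⟨h, hh, e⟩
      refine ⟨a⁻¹ * h, mul_mem (inv_mem ha) hh, ?_⟩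
      rw [Subgroup.coe_mul, Subgroup.coe_inv, Equiv.Perm.mul_apply, e]
      simp
    · rintro ⟨h, hh, e⟩
      exact ⟨a * h, mul_mem ha hh, by rw [Subgroup.coe_mul, Equiv.Perm.mul_apply, e]⟩
  have hqO : q ∈ O := (hmemO q).2 ⟨1, one_mem _, rfl⟩
  have hnO : (none : GolayPt) ∉ O := fun h => by
    obtain ⟨a, -, e⟩ := (hmemO none).1 h
    exact hqn ((a : Equiv.Perm GolayPt).injective (e.trans (mem_m23.1 a.2).2.symm))
  have hfO : (O.filter fun x => σ x = x) = {q} := by
    refine Finset.eq_singleton_iff_unique_mem.2 ⟨Finset.mem_filter.2 ⟨hqO, mem_fixPts.1 hqσ⟩, fun x hx => ?_⟩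
    obtain ⟨hxO, hxσ⟩ := Finset.mem_filter.1 hx
    have : x ∈ (fixSet σ).erase none := Finset.mem_erase.2 ⟨fun e => hnO (e ▸ hxO), mem_fixPts.2 hxσ⟩
    rw [hq] at this
    exact Finset.mem_singleton.1 this
  have hmod11 : O.card % 11 = 1 := by
    have h := card_invariant_mod (p := 11) σ (hσ ▸ pow_orderOf_eq_one σ) O (hOinv u huH)
    rwa [hfO, Finset.card_singleton] at h
  have hO23 : O.card ≤ 23 := by
    have h := Finset.card_le_card (show O ⊆ Finset.univ.erase none from fun x hx =>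
      Finset.mem_erase.2 ⟨fun e => hnO (e ▸ hx), Finset.mem_univ x⟩)
    rwa [Finset.card_erase_of_mem (Finset.mem_univ _), Finset.card_univ,
      show Fintype.card GolayPt = 24 from rfl] at h
  have hdvd : O.card ∣ Nat.card H := by
    let act : H →* Equiv.Perm GolayPt := (Spor.M23).subtype.comp H.subtype
    letI : MulAction H GolayPt := MulAction.compHom GolayPt act
    have horb : (MulAction.orbit H q : Set GolayPt) = (O : Set GolayPt) := by
      ext x
      rw [Finset.mem_coe, hmemO]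
      constructor
      · rintro ⟨a, rfl⟩; exact ⟨a, a.2, rfl⟩
      · rintro ⟨a, ha, rfl⟩; exact ⟨⟨a, ha⟩, rfl⟩
    have h := MulAction.index_stabilizer H q
    rw [horb, Set.ncard_coe_finset] at h
    exact h ▸ Subgroup.index_dvd_card _
  have hO12 : O.card ≠ 12 := by
    intro h12
    have h := card_invariant_mod (p := 7) τ (hτ ▸ pow_orderOf_eq_one τ) O (hOinv v hvH)
    have hle : (O.filter fun x => τ x = x).card ≤ 2 := by
      have h' := Finset.card_le_card (show (O.filter fun x => τ x = x) ⊆ (fixSet τ).erase none from fun x hx =>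
        Finset.mem_erase.2 ⟨fun e => hnO (e ▸ (Finset.mem_filter.1 hx).1), mem_fixPts.2 (Finset.mem_filter.1 hx).2⟩)
      rwa [Finset.card_erase_of_mem (mem_fixPts.2 hτm.2), hτfix] at h'
    omega
  have hO1 : O.card = 1 := by
    have hne : O.card ≠ 23 := fun e => h23 (e ▸ hdvd)
    omega
  intro h hh
  exact Finset.card_le_one.1 hO1.le _ ((hmemO _).2 ⟨h, hh, rfl⟩) _ hqO

variable {G : Type u} [Group G] [Finite G]

/-- The points of the action match those of the model. -/
theorem exists_point_equiv (hG : Nat.card G = 244823040) (S : Subgroup G) (hS : Nat.card S = 10200960) {z : G}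
    (hz : orderOf z = 23) (hN : Subgroup.normalizer ((Subgroup.zpowers z : Subgroup G) : Set G) ≤ S)
    (e : ↥S ≃* ↥Spor.M23) :
    ∃ ψ : G ⧸ S ≃ GolayPt, ψ (QuotientGroup.mk 1) = none ∧
      ∀ (s : S) (x : G ⧸ S), ψ ((s : G) • x) = (e s : Equiv.Perm GolayPt) (ψ x) := by
  classical
  haveI := Fintype.ofFinite (G ⧸ S)
  set a₀ : G ⧸ S := QuotientGroup.mk 1 with ha₀
  have hX : Fintype.card (G ⧸ S) = 24 := by
    have h := S.card_mul_index
    rw [hS, hG] at h
    rw [← Nat.card_eq_fintype_card, ← Subgroup.index]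
    omega
  have hzS : z ∈ S := hN (Subgroup.le_normalizer (Subgroup.mem_zpowers z))
  have hSa : ∀ g : G, g • a₀ = a₀ ↔ g ∈ S := fun g => by
    rw [ha₀, MulAction.Quotient.smul_mk, QuotientGroup.eq]
    simp
  -- the element of order twenty-three fixes only the base coset
  have hfix : ∀ x : G ⧸ S, z • x = x → x = a₀ := by
    intro x hx
    obtain ⟨g, rfl⟩ := QuotientGroup.mk_surjective x
    rw [MulAction.Quotient.smul_mk, QuotientGroup.eq] at hx
    have hu : g⁻¹ * z * g ∈ S := by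
      have := inv_mem hx
      simpa [mul_assoc] using this
    have huo : orderOf (g⁻¹ * z * g) = 23 := by
      rw [show g⁻¹ * z * g = MulAut.conj g⁻¹ z by simp, MulEquiv.orderOf_eq, hz]
    have hp2 : ¬ 23 ^ 2 ∣ Nat.card S := by rw [hS]; norm_num
    obtain ⟨s, hs⟩ := MTwentyThree.Nse.exists_conj_zpowers hp2
      (x := (⟨z, hzS⟩ : S)) (u := (⟨g⁻¹ * z * g, hu⟩ : S))
      (by rw [Subgroup.orderOf_mk, hz]) (by rw [Subgroup.orderOf_mk, huo])
    obtain ⟨i, hi⟩ := (hs ▸ ⟨_, Subgroup.mem_zpowers _, rfl⟩ :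
      (MulAut.conj s).toMonoidHom ⟨z, hzS⟩ ∈ Subgroup.zpowers (⟨g⁻¹ * z * g, hu⟩ : S))
    have hi' : (g⁻¹ * z * g) ^ i = (s : G) * z * (s : G)⁻¹ := congrArg Subtype.val hi
    have hconj : MulAut.conj (g * (s : G)) z = z ^ i := by
      calc MulAut.conj (g * (s : G)) z = g * ((s : G) * z * (s : G)⁻¹) * g⁻¹ := by
            rw [MulAut.conj_apply]; group
        _ = g * (MulAut.conj g⁻¹ z) ^ i * g⁻¹ := by rw [← hi', show g⁻¹ * z * g = MulAut.conj g⁻¹ z by simp]
        _ = z ^ i := by rw [← map_zpow, MulAut.conj_apply]; group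
    have hgs : g * (s : G) ∈ Subgroup.normalizer ((Subgroup.zpowers z : Subgroup G) : Set G) := by
      refine Solv.mem_normalizer_of_conj_smul ?_
      refine Subgroup.eq_of_le_of_card_ge ?_ (by rw [Solv.card_conj_smul])
      intro y hy
      obtain ⟨y', ⟨j, rfl⟩, rfl⟩ := hy
      show MulAut.conj (g * (s : G)) (z ^ j) ∈ _
      rw [map_zpow, hconj, ← zpow_mul]
      exact ⟨_, rfl⟩
    rw [ha₀, QuotientGroup.eq]
    have := mul_mem (hN hgs) (inv_mem s.2)
    simpa using this
  have hzne : ∀ x : G ⧸ S, x ≠ a₀ → z • x ≠ x := fun x hx h => hx (hfix x h)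
  obtain ⟨b, hb⟩ : ∃ b : G ⧸ S, b ≠ a₀ := Fintype.exists_ne_of_one_lt_card (by omega) a₀
  have hzpow : z ^ 23 = 1 := hz ▸ pow_orderOf_eq_one z
  have hper : ∀ (x : G ⧸ S), x ≠ a₀ → ∀ i j : ℕ, i < 23 → j < 23 → z ^ i • x = z ^ j • x → i = j := by
    intro x hx i j hi hj hij
    have h1 : Function.minimalPeriod (z • ·) x = 23 := by
      have hd : Function.minimalPeriod (z • ·) x ∣ 23 := by
        have := (MulAction.pow_smul_eq_iff_minimalPeriod_dvd (a := z) (b := x) (n := 23)).1 (by rw [hzpow, one_smul])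
        exact this
      refine ((Nat.dvd_prime (by norm_num)).1 hd).resolve_left fun e1 => hzne x hx ?_
      have := (MulAction.pow_smul_eq_iff_minimalPeriod_dvd (a := z) (b := x) (n := 1)).2 (by rw [e1])
      simpa using this
    rcases le_total i j with hle | hle <;> obtain ⟨k, rfl⟩ := Nat.exists_eq_add_of_le hle
    · rw [pow_add, mul_smul, smul_left_cancel_iff] at hij
      have h2 := (MulAction.pow_smul_eq_iff_minimalPeriod_dvd (a := z) (b := x) (n := k)).1 hij.symm
      rw [h1] at h2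
      have := Nat.eq_zero_of_dvd_of_lt h2 (by omega)
      omega
    · rw [pow_add, mul_smul, smul_left_cancel_iff] at hij
      have h2 := (MulAction.pow_smul_eq_iff_minimalPeriod_dvd (a := z) (b := x) (n := k)).1 hij
      rw [h1] at h2
      have := Nat.eq_zero_of_dvd_of_lt h2 (by omega)
      omega
  have hza : ∀ k : ℕ, z ^ k • a₀ = a₀ := fun k => (hSa _).2 (pow_mem hzS k)
  let f : Option (Fin 23) → G ⧸ S := fun o => o.elim a₀ fun i => z ^ (i : ℕ) • b
  have hfne : ∀ i : ℕ, z ^ i • b ≠ a₀ := fun i h => hb (by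
    rw [← inv_smul_smul (z ^ i) b, h, (hSa _).2 (inv_mem (pow_mem hzS i))])
  have hf : Function.Bijective f := by
    rw [Fintype.bijective_iff_injective_and_card, hX, Fintype.card_option, Fintype.card_fin]
    refine ⟨?_, rfl⟩
    rintro (_ | i) (_ | j) h
    · rfl
    · exact absurd h.symm (hfne j)
    · exact absurd h (hfne i)
    · exact congrArg some (Fin.ext (hper b hb i j i.2 j.2 h))
  -- the stabiliser of a second point
  letI : MulAction S (G ⧸ S) := MulAction.compHom (G ⧸ S) S.subtype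
  have hsm : ∀ (s : S) (x : G ⧸ S), s • x = (s : G) • x := fun _ _ => rfl
  set H := MulAction.stabilizer S b with hH
  have horb : MulAction.orbit S b = {a₀}ᶜ := by
    ext x
    simp only [Set.mem_compl_iff, Set.mem_singleton_iff]
    constructor
    · rintro ⟨s, rfl⟩ h
      have h' : (s : G) • b = a₀ := h
      exact hb (by rw [← inv_smul_smul (s : G) b, h', (hSa _).2 (inv_mem s.2)])
    · intro hx
      obtain ⟨o, rfl⟩ := hf.2 x
      cases o with
      | none => exact absurd rfl hx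
      | some i => exact ⟨⟨z ^ (i : ℕ), pow_mem hzS _⟩, rfl⟩
  have hHcard : Nat.card H = 443520 := by
    have h := H.card_mul_index
    rw [hH, MulAction.index_stabilizer, horb, Set.ncard_compl, Set.ncard_singleton, Nat.card_eq_fintype_card (α := G ⧸ S),
      hX, hS] at h
    rw [hH]
    omega
  set H' := H.map e.toMonoidHom with hH'
  have hH'card : Nat.card H' = 443520 := by
    rw [hH', ← Nat.card_congr (H.equivMapOfInjective _ e.injective).toEquiv, hHcard]
  obtain ⟨p, hpn, hp⟩ := exists_fixed_point H' (by rw [hH'card]; norm_num) (by rw [hH'card]; norm_num)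
    (by rw [hH'card]; norm_num)
  set w : Equiv.Perm GolayPt := (e ⟨z, hzS⟩ : Equiv.Perm GolayPt) with hwdef
  have hwo : orderOf w = 23 := by rw [hwdef, Subgroup.orderOf_coe, MulEquiv.orderOf_eq, Subgroup.orderOf_mk, hz]
  have hwm := mem_m23.1 (e ⟨z, hzS⟩).2
  have hwp : w p ≠ p := by
    intro h
    have h1 : (fixSet w).card = 1 :=
      M24Block.fix_eq (g := ⟨w, hwm.1⟩) (p := 23) (by tauto) (by rw [orderOf_coe_m24, hwo])
    exact hpn (Finset.card_le_one.1 h1.le _ (mem_fixPts.2 h) _ (mem_fixPts.2 hwm.2))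
  have hwpow : ∀ k : ℕ, (e (⟨z, hzS⟩ ^ k) : Equiv.Perm GolayPt) = w ^ k := fun k => by
    rw [map_pow, SubmonoidClass.coe_pow, hwdef]
  have hwn : ∀ k : ℕ, (w ^ k) none = none := fun k => by
    rw [← hwpow]; exact (mem_m23.1 (e _).2).2
  let g : Option (Fin 23) → GolayPt := fun o => o.elim none fun i => (w ^ (i : ℕ)) p
  have hg : Function.Bijective g := by
    rw [Fintype.bijective_iff_injective_and_card, show Fintype.card GolayPt = 24 from rfl, Fintype.card_option,
      Fintype.card_fin]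
    refine ⟨?_, rfl⟩
    rintro (_ | i) (_ | j) h
    · rfl
    · exact absurd ((w ^ (j : ℕ)).injective (h.symm.trans (hwn j).symm)) hpn
    · exact absurd ((w ^ (i : ℕ)).injective (h.trans (hwn i).symm)) hpn
    · exact congrArg some (Fin.ext (M24Block.orbit_injOn (by norm_num : Nat.Prime 23) hwo hwp
        (by simp [i.2]) (by simp [j.2]) h))
  let ψ : G ⧸ S ≃ GolayPt := (Equiv.ofBijective f hf).symm.trans (Equiv.ofBijective g hg)
  have hψ : ∀ o, ψ (f o) = g o := fun o => by simp [ψ]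
  refine ⟨ψ, hψ none, fun s x => ?_⟩
  obtain ⟨o, rfl⟩ := hf.2 x
  rw [hψ]
  cases o with
  | none =>
    show ψ ((s : G) • a₀) = (e s : Equiv.Perm GolayPt) none
    rw [(hSa _).2 s.2, show ψ a₀ = none from hψ none, (mem_m23.1 (e s).2).2]
  | some i =>
    obtain ⟨o', ho'⟩ := hf.2 ((s : G) • f (some i))
    rw [← ho', hψ]
    cases o' with
    | none =>
      exfalso
      have h' : a₀ = (s : G) • z ^ (i : ℕ) • b := ho'
      exact hfne i (by rw [← inv_smul_smul (s : G) (z ^ (i : ℕ) • b), ← h', (hSa _).2 (inv_mem s.2)])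
    | some j =>
      have h' : z ^ (j : ℕ) • b = (s : G) • z ^ (i : ℕ) • b := ho'
      show (w ^ (j : ℕ)) p = (e s : Equiv.Perm GolayPt) ((w ^ (i : ℕ)) p)
      set zz : S := ⟨z, hzS⟩
      have hmem : (zz ^ (j : ℕ))⁻¹ * s * zz ^ (i : ℕ) ∈ H := by
        rw [hH, MulAction.mem_stabilizer_iff, hsm]
        push_cast
        rw [mul_smul, mul_smul, ← h', inv_smul_smul]
      have h2 := hp _ (Subgroup.mem_map_of_mem e.toMonoidHom hmem)
      rw [MulEquiv.coe_toMonoidHom, map_mul, map_mul, map_inv, Subgroup.coe_mul, Subgroup.coe_mul, Subgroup.coe_inv,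
        hwpow, hwpow, Equiv.Perm.mul_apply, Equiv.Perm.mul_apply, Equiv.Perm.inv_eq_iff_eq] at h2
      exact h2.symm

/-- The Steiner system of fixed point sets of involutions. -/
def blockSet (G : Type u) [Group G] (X : Type*) [Fintype X] [MulAction G X] : Set (Finset X) :=
  {F | F.card = 8 ∧ ∃ g : G, orderOf g = 2 ∧ ∀ x, x ∈ F ↔ g • x = x}

theorem smul_mem_block {X : Type*} [Fintype X] [DecidableEq X] [MulAction G X] (h : G) {F : Finset X}
    (hF : F ∈ blockSet G X) : h • F ∈ blockSet G X := by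
  obtain ⟨h8, g, hg, hfix⟩ := hF
  refine ⟨by rw [Finset.card_smul_finset, h8], h * g * h⁻¹, ?_, fun x => ?_⟩
  · rw [← MulAut.conj_apply, MulEquiv.orderOf_eq, hg]
  · rw [← Finset.inv_smul_mem_iff, hfix, mul_smul, mul_smul, eq_inv_smul_iff]

/-- A simple group with a subgroup of index twenty-four isomorphic to the Mathieu group of degree twenty-three. -/
theorem iso_of_sub [IsSimpleGroup G] (hG : Nat.card G = 244823040) (S : Subgroup G)
    (hS : Nat.card S = 10200960) {z : G}
    (hz : orderOf z = 23) (hN : Subgroup.normalizer ((Subgroup.zpowers z : Subgroup G) : Set G) ≤ S)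
    (e : ↥S ≃* ↥Spor.M23) : Nonempty (G ≃* ↥Cfsg.M24) := by
  classical
  haveI := Fintype.ofFinite (G ⧸ S)
  obtain ⟨ψ, hψ0, hψ⟩ := exists_point_equiv hG S hS hz hN e
  set a₀ : (G ⧸ S) := QuotientGroup.mk 1 with ha₀
  have hX : Fintype.card (G ⧸ S) = 24 := (Fintype.card_congr ψ).trans rfl
  have hSa : ∀ g : G, g • a₀ = a₀ ↔ g ∈ S := fun g => by
    rw [ha₀, MulAction.Quotient.smul_mk, QuotientGroup.eq]
    simp
  set B := blockSet G (G ⧸ S) with hBdef
  -- existence and uniqueness through the base coset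
  have key : ∀ s : Finset (G ⧸ S), s.card = 5 → a₀ ∈ s → ∃! F, F ∈ B ∧ s ⊆ F := by
    intro s hs hsa
    obtain ⟨o, ⟨ho, hso⟩, huniq⟩ := octads_steiner.2 (s.image ψ)
      (by rw [Finset.card_image_of_injective _ ψ.injective, hs])
    obtain ⟨t, htM, ht2, hto⟩ := MathieuOut.exists_invol ho
    have htn : t none = none := mem_fixPts.1 (hto ▸ hso (hψ0 ▸ Finset.mem_image_of_mem ψ hsa))
    set st : S := e.symm ⟨t, mem_m23.2 ⟨htM, htn⟩⟩ with hst
    have hmemF : ∀ x, x ∈ o.image ψ.symm ↔ ψ x ∈ o := fun x => by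
      rw [Finset.mem_image]
      exact ⟨fun ⟨y, hy, e'⟩ => by rw [← e', ψ.apply_symm_apply]; exact hy, fun h => ⟨_, h, ψ.symm_apply_apply x⟩⟩
    refine ⟨o.image ψ.symm, ⟨⟨?_, (st : G), ?_, fun x => ?_⟩, ?_⟩, ?_⟩
    · rw [Finset.card_image_of_injective _ ψ.symm.injective, ho.2]
    · rw [Subgroup.orderOf_coe, hst, MulEquiv.orderOf_eq, ← Subgroup.orderOf_coe]
      exact ht2
    · rw [hmemF, ← hto, mem_fixPts, ← ψ.apply_eq_iff_eq, hψ, hst, MulEquiv.apply_symm_apply]
    · intro x hx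
      exact (hmemF x).2 (hso (Finset.mem_image_of_mem ψ hx))
    · rintro F ⟨⟨h8, g, hg, hfix⟩, hsF⟩
      have hgS : g ∈ S := (hSa g).1 ((hfix a₀).1 (hsF hsa))
      set u : Equiv.Perm GolayPt := (e ⟨g, hgS⟩ : Equiv.Perm GolayPt) with hu
      have hu2 : orderOf u = 2 := by rw [hu, Subgroup.orderOf_coe, MulEquiv.orderOf_eq, Subgroup.orderOf_mk, hg]
      have hfu : fixSet u = F.image ψ := by
        ext p
        rw [mem_fixPts, Finset.mem_image]
        constructor
        · intro h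
          refine ⟨ψ.symm p, (hfix _).2 (ψ.injective ?_), ψ.apply_symm_apply p⟩
          rw [show g • ψ.symm p = ((⟨g, hgS⟩ : S) : G) • ψ.symm p from rfl, hψ, ψ.apply_symm_apply, ← hu, h]
        · rintro ⟨x, hx, rfl⟩
          rw [hu, ← hψ]
          exact congrArg ψ ((hfix x).1 hx)
      have hoct : F.image ψ ∈ octads := by
        rcases invol_by_fix (mem_m23.1 (e ⟨g, hgS⟩).2).1 hu2 with ⟨h0, -⟩ | ⟨-, h, -⟩
        · rw [hfu, Finset.card_image_of_injective _ ψ.injective, h8] at h0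
          omega
        · rwa [hfu] at h
      rw [← huniq _ ⟨hoct, Finset.image_subset_image hsF⟩, Finset.image_image, ψ.symm_comp_self, Finset.image_id]
  have hst : IsSteinerSystem 5 8 B := by
    refine ⟨fun F hF => hF.1, fun s hs => ?_⟩
    obtain ⟨a, ha⟩ := Finset.card_pos.1 (show 0 < s.card by omega)
    obtain ⟨h, hh⟩ := MulAction.exists_smul_eq G a a₀
    obtain ⟨F, ⟨hF, hsF⟩, hu⟩ := key (h • s) (by rw [Finset.card_smul_finset, hs])
      (hh ▸ Finset.smul_mem_smul_finset ha)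
    refine ⟨h⁻¹ • F, ⟨smul_mem_block h⁻¹ hF, ?_⟩, ?_⟩
    · rw [← inv_smul_smul h s]
      exact Finset.smul_finset_subset_smul_finset hsF
    · rintro F' ⟨hF', hsF'⟩
      rw [← hu (h • F') ⟨smul_mem_block h hF', Finset.smul_finset_subset_smul_finset hsF'⟩, inv_smul_smul]
  -- the embedding
  have hrange : ∀ g : G, MulAction.toPermHom G (G ⧸ S) g ∈ setSystemAut B := by
    intro g
    have himg : ∀ F : Finset (G ⧸ S), MulAction.toPermHom G (G ⧸ S) g • F = g • F := fun F => rfl
    rw [MulAction.mem_stabilizer_iff]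
    refine Set.ext fun F => ⟨?_, fun hF => ⟨g⁻¹ • F, smul_mem_block g⁻¹ hF, ?_⟩⟩
    · rintro ⟨F', hF', rfl⟩
      show MulAction.toPermHom G (G ⧸ S) g • F' ∈ B
      rw [himg]
      exact smul_mem_block g hF'
    · show MulAction.toPermHom G (G ⧸ S) g • g⁻¹ • F = F
      rw [himg, smul_inv_smul]
  let φ : G →* ↥(setSystemAut B) := (MulAction.toPermHom G (G ⧸ S)).codRestrict _ hrange
  have hinj : Function.Injective φ := by
    refine (MonoidHom.ker_eq_bot_iff φ).1 ((MonoidHom.normal_ker φ).eq_bot_or_eq_top.resolve_right fun htop => ?_)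
    have hle : (⊤ : Subgroup G) ≤ S := fun g _ => by
      have h1 : φ g = 1 := MonoidHom.mem_ker.1 (htop ▸ Subgroup.mem_top g)
      exact (hSa g).1 (congrArg (fun σ : ↥(setSystemAut B) => (σ : Equiv.Perm (G ⧸ S)) a₀) h1)
    have := congrArg (fun K : Subgroup G => Nat.card K) (top_le_iff.1 hle)
    simp only [Subgroup.card_top, hS, hG] at this
    omega
  obtain ⟨F, hF⟩ := Cfsg.Agent.Spor.Steiner.exists_finset B
  have hsys : Cfsg.Agent.Spor.Code24.Sys 0 F := ⟨by norm_num, by omega, hF ▸ hst⟩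
  obtain ⟨-, -, -, Φ, -⟩ := hsys.aut_equiv ⟨Fin.elim0, fun i => i.elim0⟩
  have htop : MulAction.stabilizer Cfsg.M24 (Finset.univ.image (⟨Fin.elim0, fun i => i.elim0⟩ : Fin 0 ↪ Cfsg.GolayPt)) = ⊤ := by
    refine eq_top_iff.2 fun σ _ => ?_
    rw [MulAction.mem_stabilizer_iff, Finset.univ_eq_empty, Finset.image_empty]
    rfl
  let E : ↥(setSystemAut B) ≃* ↥Cfsg.M24 := (MulEquiv.subgroupCongr (congrArg setSystemAut hF)).trans
    (Φ.symm.trans ((MulEquiv.subgroupCongr htop).trans Subgroup.topEquiv))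
  have hbij : Function.Bijective φ := (Nat.bijective_iff_injective_and_card φ).2
    ⟨hinj, by rw [Nat.card_congr E.toEquiv, Cfsg.Agent.Spor.card_M24, hG]⟩
  exact ⟨(MulEquiv.ofBijective φ hbij).trans E⟩

end Cfsg.Agent.MTwentyFour.Iso
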