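import Cfsg.Agent.Lib.Spor.MTwentyFourIso.LineStab
import Cfsg.Agent.Lib.Spor.MTwentyTwoOrder.Vals

/-!
The values of a character of degree twenty-three at the elements of order twenty-three, eleven and five.
-/

set_option autoImplicit false
set_option linter.unusedSectionVars false
set_option linter.style.haveILetI false
set_option maxRecDepth 100000
set_option maxHeartbeats 1000000

namespace Cfsg.Agent.MTwentyFour.Iso

open Cfsg Cfsg.Agent.Char Cfsg.Agent.Small.Order459648
open Cfsg.Agent.MTwelve.OrderFront (val_one)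

universe u

variable {G : Type u} [Group G] [Fintype G]

/-- With an automiser of order `p - 1` all generators are conjugate. -/
theorem isConj_pow_of_full {p : ℕ} [hp : Fact p.Prime] {w : G} (hw : orderOf w = p)
    (hC : Nat.card (Subgroup.centralizer ({w} : Set G)) = p)
    (hN : Nat.card (Subgroup.normalizer ((Subgroup.zpowers w : Subgroup G) : Set G)) = p * (p - 1))
    {k : ℕ} (hk : k.Coprime p) : IsConj w (w ^ k) := by
  classical
  set T := Subgroup.zpowers w with hT
  have hTc : Nat.card T = p := by rw [hT, Nat.card_zpowers, hw]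
  have hcomm : ∀ a b : T, a * b = b * a := fun a b => by
    obtain ⟨i, hi⟩ := a.2
    obtain ⟨j, hj⟩ := b.2
    refine Subtype.ext ?_
    show (a : G) * b = b * a
    rw [← hi, ← hj, ← zpow_add, add_comm, zpow_add]
  have hsurj : Function.Surjective T.normalizerMonoidHom := by
    rw [← MonoidHom.range_eq_top]
    refine Subgroup.eq_top_of_card_eq _ ?_
    rw [← Subgroup.index_ker, Subgroup.normalizerMonoidHom_ker, IsCyclic.card_mulAut, hTc,
      Nat.totient_prime hp.out]
    have hC' : Subgroup.centralizer (T : Set G) = Subgroup.centralizer ({w} : Set G) := by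
      rw [hT, Subgroup.zpowers_eq_closure, Subgroup.centralizer_closure]
    have h := ((Subgroup.centralizer (T : Set G)).subgroupOf
      (Subgroup.normalizer (T : Set G))).card_mul_index
    rw [Nat.card_congr (Subgroup.subgroupOfEquivOfLe (Subgroup.centralizer_le_normalizer (T : Set G))).toEquiv,
      hC', hC, hN] at h
    rw [hC']
    exact Nat.eq_of_mul_eq_mul_left hp.out.pos h
  have hco : (Nat.card T).Coprime k := hTc ▸ hk.symm
  let φ : MulAut T :=
    { powCoprime hco with
      map_mul' := fun a b => by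
        show (a * b) ^ k = a ^ k * b ^ k
        exact (show Commute a b from hcomm a b).mul_pow k }
  obtain ⟨x, hx⟩ := hsurj φ
  have h := congrArg (fun f : MulAut T => ((f ⟨w, Subgroup.mem_zpowers w⟩ : T) : G)) hx
  refine isConj_iff.2 ⟨(x : G), ?_⟩
  exact h

local instance fact23_val : Fact (Nat.Prime 23) := ⟨by norm_num⟩
local instance fact11_val : Fact (Nat.Prime 11) := ⟨by norm_num⟩

variable [IsSimpleGroup G]

/-- The values at the elements of order twenty-three and eleven, and the integrality at order five. -/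
theorem values (hG : Nat.card G = 244823040)
    (h11 : ∃ P : Sylow 11 G, Nat.card P = 11 ∧ Nat.card (Subgroup.centralizer ((P : Subgroup G) : Set G)) = 11 ∧
      (Subgroup.centralizer ((P : Subgroup G) : Set G)).relIndex
        (Subgroup.normalizer ((P : Subgroup G) : Set G)) = 10)
    {χ : IrrCharacter G} (hd : charDegree (χ : G → ℂ) = 23)
    (hgal : ∀ g : G, orderOf g = 5 → ∀ k : ℕ, k.Coprime (Nat.card G) → (χ : G → ℂ) (g ^ k) = (χ : G → ℂ) g) :
    (∀ g : G, orderOf g = 23 → (χ : G → ℂ) g = 0) ∧ (∀ g : G, orderOf g = 11 → (χ : G → ℂ) g = 1) ∧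
      (∀ g : G, orderOf g = 5 → ∃ z : ℤ, (χ : G → ℂ) g = z) ∧
      ∀ g : G, orderOf g = 5 → ∀ i : ℕ, ¬ 5 ∣ i → (χ : G → ℂ) (g ^ i) = (χ : G → ℂ) g := by
  classical
  refine ⟨fun g hg => ?_, fun g hg => ?_, fun g hg => ?_, fun g hg i hi => ?_⟩
  · refine BSW.defect_zero_vanish (show Nat.Prime 23 by norm_num) ?_ (dvd_of_eq hg.symm)
    rw [← charDegree_eq_deg, hd]
    have hf : (Nat.card G).factorization 23 ≤ 1 := by
      by_contra h
      have h2 := ((show Nat.Prime 23 by norm_num).pow_dvd_iff_le_factorization Nat.card_pos.ne').2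
        (show 2 ≤ (Nat.card G).factorization 23 by omega)
      rw [hG] at h2
      norm_num at h2
    exact (pow_dvd_pow 23 hf).trans (by rw [pow_one])
  · obtain ⟨R, hR, hC, he⟩ := h11
    have hp2 : ¬ 11 ^ 2 ∣ Nat.card G := by rw [hG]; norm_num
    have hcw := MTwentyThree.ByOrder.cent_of_sylow hp2 hR hC hg
    obtain ⟨z, hz⟩ := SmallOrderGraph.int_of_pow_fixed (irr_isCharacter χ.2) (g := g) fun k hk => by
      obtain ⟨c, hc⟩ := isConj_iff.1 (isConj_pow_of_full hg hcw (norm_zpowers hp2 R hR hC he hg)
        (Nat.Coprime.coprime_dvd_right (by rw [hG]; norm_num) hk))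
      rw [← hc]
      exact isClassFunction_character (irr_isCharacter χ.2) g c
    have h1 := MTwentyTwo.ByOrder.int_congr_deg (show Nat.Prime 11 by norm_num) hg hz
    have hne : χ ≠ oneChar := by
      rintro rfl
      have := val_one (oneChar : IrrCharacter G)
      rw [hd] at this
      simp only [oneChar] at this
      norm_num at this
    have h2 := MTwelve.OrderFront.one_add_sq_le hne hz
    rw [hcw] at h2
    push_cast at h2
    rw [hd] at h1
    have hlo : -3 ≤ z := by nlinarith
    have hhi : z ≤ 3 := by nlinarith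
    rw [hz, show z = 1 by interval_cases z <;> omega]
    norm_num
  · exact SmallOrderGraph.int_of_pow_fixed (irr_isCharacter χ.2) (hgal g hg)
  · obtain ⟨k, hk, hki⟩ : ∃ k : ℕ, k.Coprime (Nat.card G) ∧ k % 5 = i % 5 := by
      rw [hG]
      have h4 : i % 5 = 1 ∨ i % 5 = 2 ∨ i % 5 = 3 ∨ i % 5 = 4 := by omega
      rcases h4 with h | h | h | h
      · exact ⟨1, Nat.coprime_one_left _, h.symm⟩
      · exact ⟨17, by norm_num, h.symm⟩
      · exact ⟨13, by norm_num, h.symm⟩
      · exact ⟨19, by norm_num, h.symm⟩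
    rw [← pow_mod_orderOf, hg, ← hki]
    nth_rewrite 1 [← hg]
    rw [pow_mod_orderOf]
    exact hgal g hg k hk

/-- Uniqueness of the degree gives the invariance. -/
theorem gal_of_unique {χ : IrrCharacter G} (hd : charDegree (χ : G → ℂ) = 23)
    (hu : ∀ ψ : IrrCharacter G, charDegree (ψ : G → ℂ) = 23 → ψ = χ) (g : G) (k : ℕ) (hk : k.Coprime (Nat.card G)) :
    (χ : G → ℂ) (g ^ k) = (χ : G → ℂ) g := by
  rw [← SmallOrderGraph.galConj_apply χ hk, hu (SmallOrderGraph.galConj χ hk) (by rw [SmallOrderGraph.charDegree_galConj, hd])]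

end Cfsg.Agent.MTwentyFour.Iso
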