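import Cfsg.Agent.Lib.Spor.MTwentyFourIso.Extension
import Cfsg.Agent.Lib.Spor.MTwentyFourIso.Values
import Cfsg.Agent.Lib.Spor.MTwentyFourOrder.SylowTwentyThree

/-!
A simple group of the order of the Mathieu group of degree twenty-four is isomorphic to it, given the two
large Sylow subgroups and a character of degree twenty-three.
-/

set_option autoImplicit false
set_option linter.unusedSectionVars false
set_option linter.style.haveILetI false
set_option maxRecDepth 100000
set_option maxHeartbeats 1000000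

namespace Cfsg.Agent.MTwentyFour.Iso

open Cfsg

universe u

local instance fact23_fin : Fact (Nat.Prime 23) := ⟨by norm_num⟩
local instance fact11_fin : Fact (Nat.Prime 11) := ⟨by norm_num⟩

variable {G : Type u} [Group G] [Fintype G] [IsSimpleGroup G]

/-- The identification from the front facts. -/
theorem iso_of_facts (hG : Nat.card G = 244823040)
    (h11 : ∃ P : Sylow 11 G, Nat.card P = 11 ∧ Nat.card (Subgroup.centralizer ((P : Subgroup G) : Set G)) = 11 ∧
      (Subgroup.centralizer ((P : Subgroup G) : Set G)).relIndex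
        (Subgroup.normalizer ((P : Subgroup G) : Set G)) = 10)
    (hchi : ∃ χ : IrrCharacter G, charDegree (χ : G → ℂ) = 23 ∧
      ∀ g : G, orderOf g = 5 → ∀ k : ℕ, k.Coprime (Nat.card G) → (χ : G → ℂ) (g ^ k) = (χ : G → ℂ) g)
    (hM23 : ∀ (X : Type u) [Group X] [Finite X], IsM23 X → Cfsg.Spor.IsoM23 X) :
    Nonempty (G ≃* ↥Cfsg.M24) := by
  classical
  obtain ⟨χ, hd, hgal⟩ := hchi
  obtain ⟨v23, v11, vint, vgal⟩ := values hG h11 hd hgal
  obtain ⟨n, ρ, hρ, hχ⟩ := χ.2
  have h1 : ρ.character 1 = 23 := by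
    rw [hχ, MTwelve.OrderFront.val_one, hd]
    norm_num
  have h23 := ByOrder.exists_twentythree hG
  obtain ⟨S, hS, z, hz, hNS⟩ := exists_line_stab hG h23 h11 hρ h1 (hχ ▸ v23) (hχ ▸ v11) (hχ ▸ vint) (hχ ▸ vgal)
  obtain ⟨P, hP, hC, he⟩ := h23
  have hp2 : ¬ 23 ^ 2 ∣ Nat.card G := by rw [hG]; norm_num
  have hzS : z ∈ S := hNS (Subgroup.le_normalizer (Subgroup.mem_zpowers z))
  set z' : S := ⟨z, hzS⟩ with hz'
  have hz'o : orderOf z' = 23 := by rw [hz', Subgroup.orderOf_mk, hz]
  have hC' : Nat.card (Subgroup.centralizer ({z'} : Set S)) = 23 := by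
    refine Nat.dvd_antisymm ?_ (hz'o ▸ Subgroup.orderOf_dvd_natCard _
      (Subgroup.mem_centralizer_singleton_iff.2 rfl))
    rw [← MTwentyThree.ByOrder.cent_of_sylow hp2 hP hC hz,
      Nat.card_congr ((Subgroup.centralizer ({z'} : Set S)).equivMapOfInjective S.subtype S.subtype_injective).toEquiv]
    refine Subgroup.card_dvd_of_le ?_
    rintro _ ⟨y, hy, rfl⟩
    exact Subgroup.mem_centralizer_singleton_iff.2
      (congrArg Subtype.val (Subgroup.mem_centralizer_singleton_iff.1 hy))
  have hN' : Nat.card (Subgroup.normalizer ((Subgroup.zpowers z' : Subgroup S) : Set S)) = 253 := by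
    have hle : Subgroup.zpowers z ≤ S := Subgroup.zpowers_le.2 hzS
    have hsub : (Subgroup.zpowers z).subgroupOf S = Subgroup.zpowers z' := by
      refine Subgroup.map_injective S.subtype_injective ?_
      rw [Subgroup.map_subgroupOf_eq_of_le hle, MonoidHom.map_zpowers]
      rfl
    rw [← hsub, ← Subgroup.subgroupOf_normalizer_eq hle,
      Nat.card_congr (Subgroup.subgroupOfEquivOfLe hNS).toEquiv, norm_zpowers hp2 P hP hC he hz]
  haveI := simple_sub (Or.inl hS) hz'o hC' hN'
  obtain ⟨e⟩ := hM23 ↥S ⟨inferInstance, hS⟩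
  exact iso_of_sub hG S hS hz hNS e

end Cfsg.Agent.MTwentyFour.Iso
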