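import Cfsg.Agent.Lib.Spor.MTwentyFourIso.Final
import Cfsg.Agent.S1664

/-!
The identification with the uniqueness of the Mathieu group of degree twenty-three put in.
-/

set_option autoImplicit false
set_option linter.unusedSectionVars false

namespace Cfsg.Agent.MTwentyFour.Iso

open Cfsg

universe u

variable {G : Type u} [Group G] [Fintype G] [IsSimpleGroup G]

/-- The identification from the Sylow subgroup of order eleven and the character of degree twenty-three. -/
theorem iso_of_front (hG : Nat.card G = 244823040)
    (h11 : ∃ P : Sylow 11 G, Nat.card P = 11 ∧ Nat.card (Subgroup.centralizer ((P : Subgroup G) : Set G)) = 11 ∧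
      (Subgroup.centralizer ((P : Subgroup G) : Set G)).relIndex
        (Subgroup.normalizer ((P : Subgroup G) : Set G)) = 10)
    (hchi : ∃ χ : IrrCharacter G, charDegree (χ : G → ℂ) = 23 ∧
      ∀ g : G, orderOf g = 5 → ∀ k : ℕ, k.Coprime (Nat.card G) → (χ : G → ℂ) (g ^ k) = (χ : G → ℂ) g) :
    Nonempty (G ≃* ↥Cfsg.M24) :=
  iso_of_facts hG h11 hchi fun X _ _ hX => Cfsg.Agent.S1664.result hX

end Cfsg.Agent.MTwentyFour.Iso
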