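import Cfsg.Agent.Lib.Perm.PermChar
import Cfsg.Agent.Lib.Spor.MTwentyThreeOrder.Final
import Cfsg.Agent.Lib.Spor.MTwentyFourOrder.SylowArith

/-!
In a group of the order of the Mathieu group of degree twenty-four with an irreducible character of degree
twenty-three, the stabiliser of a line is a subgroup of index twenty-four.
-/

set_option autoImplicit false
set_option linter.unusedSectionVars false
set_option linter.style.haveILetI false
set_option maxRecDepth 100000
set_option maxHeartbeats 1000000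

namespace Cfsg.Agent.MTwentyFour.Iso

open Cfsg Module
open scoped Pointwise

universe u

variable {G : Type u} [Group G] [Finite G]

theorem card_sylow_normalizer {p : ℕ} [Fact p.Prime] (P : Sylow p G) {c e : ℕ}
    (hC : Nat.card (Subgroup.centralizer ((P : Subgroup G) : Set G)) = c)
    (he : (Subgroup.centralizer ((P : Subgroup G) : Set G)).relIndex
      (Subgroup.normalizer ((P : Subgroup G) : Set G)) = e) :
    Nat.card (Subgroup.normalizer ((P : Subgroup G) : Set G)) = c * e := by
  rw [← hC, ← he, Subgroup.relIndex, ← Nat.card_congr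
    (Subgroup.subgroupOfEquivOfLe (Subgroup.centralizer_le_normalizer ((P : Subgroup G) : Set G))).toEquiv,
    Subgroup.card_mul_index]

/-- The normalisers of the subgroups of a prime order with self-centralising Sylow subgroup. -/
theorem norm_zpowers {p : ℕ} [Fact p.Prime] (hp2 : ¬ p ^ 2 ∣ Nat.card G) (P : Sylow p G) (hP : Nat.card P = p)
    {e : ℕ} (hC : Nat.card (Subgroup.centralizer ((P : Subgroup G) : Set G)) = p)
    (he : (Subgroup.centralizer ((P : Subgroup G) : Set G)).relIndex
      (Subgroup.normalizer ((P : Subgroup G) : Set G)) = e) {y : G} (hy : orderOf y = p) :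
    Nat.card (Subgroup.normalizer ((Subgroup.zpowers y : Subgroup G) : Set G)) = p * e := by
  obtain ⟨z, hz⟩ := exists_prime_orderOf_dvd_card' (G := ↥(P : Subgroup G)) p (by
    rw [show Nat.card ↥(P : Subgroup G) = p from hP])
  have ho : orderOf (z : G) = p := by rw [Subgroup.orderOf_coe, hz]
  have hgen : Subgroup.zpowers (z : G) = (P : Subgroup G) := Subgroup.eq_of_le_of_card_ge
    (Subgroup.zpowers_le.2 z.2) (by rw [Nat.card_zpowers, ho]; exact hP.le)
  obtain ⟨g, hg⟩ := MTwentyThree.Nse.exists_conj_zpowers hp2 ho hy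
  rw [← hg, hgen, ← Subgroup.map_normalizer_eq_of_bijective _ (MulAut.conj g).bijective,
    ← Nat.card_congr (Subgroup.equivMapOfInjective _ _ (MulAut.conj g).injective).toEquiv]
  exact card_sylow_normalizer P hC he

/-- A subgroup has as many Sylow subgroups as conjugates of one of them, a number congruent to one. -/
theorem count_mod {p : ℕ} [hp : Fact p.Prime] (hp2 : ¬ p ^ 2 ∣ Nat.card G) (S : Subgroup G) {y : G}
    (hyS : y ∈ S) (hy : orderOf y = p) :
    ∃ m : ℕ, m % p = 1 ∧ Nat.card S =
      m * Nat.card (Subgroup.normalizer ((Subgroup.zpowers y : Subgroup G) : Set G) ⊓ S : Subgroup G) := by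
  have hle : Subgroup.zpowers y ≤ S := Subgroup.zpowers_le.2 hyS
  have hcard : Nat.card ((Subgroup.zpowers y).subgroupOf S) = p := by
    rw [Nat.card_congr (Subgroup.subgroupOfEquivOfLe hle).toEquiv, Nat.card_zpowers, hy]
  have hd : p ∣ Nat.card S := hcard ▸ Subgroup.card_subgroup_dvd_card _
  have hfac : (Nat.card S).factorization p = 1 := by
    have h1 := hp.out.factorization_pos_of_dvd Nat.card_pos.ne' hd
    have hlt : (Nat.card S).factorization p < 2 := Nat.not_le.mp fun h =>
      hp2 (((hp.out.pow_dvd_iff_le_factorization Nat.card_pos.ne').2 h).trans (Subgroup.card_subgroup_dvd_card S))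
    omega
  let Q : Sylow p S := Sylow.ofCard ((Subgroup.zpowers y).subgroupOf S) (by rw [hcard, hfac, pow_one])
  refine ⟨Nat.card (Sylow p S), ?_, ?_⟩
  · have h := card_sylow_modEq_one p S
    rw [show Nat.card (Sylow p S) % p = 1 % p from h, Nat.mod_eq_of_lt hp.out.one_lt]
  · rw [Q.card_eq_index_normalizer, show Subgroup.normalizer (Q : Set S) = Subgroup.normalizer
      (((Subgroup.zpowers y).subgroupOf S : Subgroup S) : Set S) from rfl, ← Subgroup.subgroupOf_normalizer_eq hle,
      ← Subgroup.inf_subgroupOf_right,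
      show Nat.card (Subgroup.normalizer ((Subgroup.zpowers y : Subgroup G) : Set G) ⊓ S : Subgroup G) =
        Nat.card ((Subgroup.normalizer ((Subgroup.zpowers y : Subgroup G) : Set G) ⊓ S).subgroupOf S) from
        (Nat.card_congr (Subgroup.subgroupOfEquivOfLe inf_le_right).toEquiv).symm,
      Subgroup.index_mul_card]

/-- The sum of a function constant on the two parts of a subgroup. -/
theorem sum_split (A Q : Subgroup G) [Fintype A] (hQA : Q ≤ A) (F : G → ℂ) (d b c : ℂ) (h1 : F 1 = d)
    (hb : ∀ g ∈ Q, g ≠ 1 → F g = b) (hc : ∀ g ∈ A, g ∉ Q → F g = c) :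
    ∑ g : A, F g = (Nat.card A : ℂ) * c + (Nat.card Q : ℂ) * (b - c) + (d - b) := by
  classical
  have h : ∀ g : A, F g = c + (if (g : G) ∈ Q then b - c else 0) + (if g = 1 then d - b else 0) := by
    intro g
    by_cases hg : g = 1
    · subst hg
      rw [if_pos rfl, if_pos (by exact Q.one_mem), OneMemClass.coe_one, h1]
      ring
    · rw [if_neg hg, add_zero]
      by_cases hgQ : (g : G) ∈ Q
      · rw [if_pos hgQ, hb _ hgQ fun e => hg (Subtype.ext e)]
        ring
      · rw [if_neg hgQ, hc _ g.2 hgQ, add_zero]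
  rw [Finset.sum_congr rfl fun g _ => h g, Finset.sum_add_distrib, Finset.sum_add_distrib, Finset.sum_const,
    Finset.card_univ, ← Nat.card_eq_fintype_card, nsmul_eq_mul, Finset.sum_ite_eq' Finset.univ (1 : A),
    if_pos (Finset.mem_univ _), ← Finset.sum_filter, Finset.sum_const, nsmul_eq_mul]
  congr 3
  rw [← Fintype.card_subtype, ← Nat.card_eq_fintype_card]
  exact_mod_cast Nat.card_congr (Equiv.subtypeSubtypeEquivSubtype fun {x} (hx : x ∈ Q) => hQA hx)

theorem order_table : ∀ k ∈ ByOrder.divList, 967680 % k = 0 → k % 5 = 0 → k % 23 = 1 →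
    253 * k / 55 % 11 = 1 ∨ 253 * k / 110 % 11 = 1 → k = 40320 ∨ k = 967680 := by
  decide +kernel

/-- The only possible order. -/
theorem order_options {s m m' t : ℕ} (hs : s ∣ 244823040) (h5 : 5 ∣ s) (hm : m % 23 = 1) (hs23 : s = m * 253)
    (hm' : m' % 11 = 1) (hs11 : s = m' * t) (ht : t = 55 ∨ t = 110) (hne : s ≠ 244823040) :
    s = 10200960 := by
  subst hs23
  have hk : m ∣ 967680 := by
    have e : (244823040 : ℕ) = 967680 * 253 := by norm_num
    rw [e] at hs
    exact Nat.dvd_of_mul_dvd_mul_right (by norm_num) hs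
  have e11 : (967680 : ℕ) * 11 = 10644480 := by norm_num
  have h1 : m ∈ ByOrder.divList := ByOrder.mem_divList (e11 ▸ hk.mul_right 11)
  have h2 : 967680 % m = 0 := Nat.mod_eq_zero_of_dvd hk
  have h3 : m % 5 = 0 := by omega
  have h4 : 253 * m / 55 % 11 = 1 ∨ 253 * m / 110 % 11 = 1 := by
    rcases ht with rfl | rfl
    · left
      rw [show 253 * m = m' * 55 by omega, Nat.mul_div_cancel _ (by norm_num : 0 < 55)]
      exact hm'
    · right
      rw [show 253 * m = m' * 110 by omega, Nat.mul_div_cancel _ (by norm_num : 0 < 110)]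
      exact hm'
  rcases order_table m h1 h2 h3 hm h4 with e | e <;> subst e
  · norm_num
  · exact absurd (by norm_num) hne

variable {n : ℕ}

/-- The stabiliser of a vector. -/
def fixer (ρ : Representation ℂ G (Fin n → ℂ)) (v : Fin n → ℂ) : Subgroup G where
  carrier := {g | ρ g v = v}
  one_mem' := by simp
  mul_mem' {a b} (ha : ρ a v = v) (hb : ρ b v = v) := by
    show ρ (a * b) v = v
    rw [map_mul, Module.End.mul_apply, hb, ha]
  inv_mem' {a} (ha : ρ a v = v) := by
    show ρ a⁻¹ v = v
    conv_lhs => rw [← ha]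
    rw [← Module.End.mul_apply, ← map_mul, inv_mul_cancel, map_one, Module.End.one_apply]

theorem mem_fixer {ρ : Representation ℂ G (Fin n → ℂ)} {v : Fin n → ℂ} {g : G} :
    g ∈ fixer ρ v ↔ ρ g v = v := Iff.rfl

theorem mem_fix {ρ : Representation ℂ G (Fin n → ℂ)} {A : Subgroup G} {v : Fin n → ℂ} :
    v ∈ Representation.invariants (ρ.comp A.subtype : Representation ℂ A (Fin n → ℂ)) ↔ ∀ g ∈ A, ρ g v = v :=
  ⟨fun h g hg => h ⟨g, hg⟩, fun h g => h g.1 g.2⟩

/-- A vector fixed by an irreducible representation of dimension above one vanishes. -/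
theorem fixer_ne_top {ρ : Representation ℂ G (Fin n → ℂ)} (hρ : ρ.IsIrreducible) (hn : n ≠ 1)
    {v : Fin n → ℂ} (hv : v ≠ 0) : fixer ρ v ≠ ⊤ := by
  intro htop
  have hfix : ∀ g, ρ g v = v := fun g => mem_fixer.1 (htop ▸ Subgroup.mem_top g)
  let W : Subrepresentation ρ := ⟨ℂ ∙ v, fun g x hx => by
    obtain ⟨a, rfl⟩ := Submodule.mem_span_singleton.1 hx
    rw [map_smul, hfix]
    exact Submodule.smul_mem _ _ (Submodule.mem_span_singleton_self v)⟩
  haveI := hρ
  rcases IsSimpleOrder.eq_bot_or_eq_top W with h | h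
  · have h' : (ℂ ∙ v) = (⊥ : Submodule ℂ (Fin n → ℂ)) := congrArg Subrepresentation.toSubmodule h
    exact hv ((Submodule.span_singleton_eq_bot).1 h')
  · have h' : (ℂ ∙ v) = (⊤ : Submodule ℂ (Fin n → ℂ)) := congrArg Subrepresentation.toSubmodule h
    have h1 := finrank_span_singleton (K := ℂ) hv
    rw [h', finrank_top, finrank_fin_fun] at h1
    exact hn h1

variable [Fintype G]

theorem fix_dim {ρ : Representation ℂ G (Fin n → ℂ)} (A : Subgroup G) {d : ℂ} [Fintype A]
    (h : ∑ g : A, ρ.character g = (Nat.card A : ℂ) * d) :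
    (finrank ℂ (Representation.invariants (ρ.comp A.subtype : Representation ℂ A (Fin n → ℂ))) : ℂ) = d := by
  rw [Perm.PermChar.sum_char_restrict] at h
  exact mul_left_cancel₀ (Nat.cast_ne_zero.2 Nat.card_pos.ne') h

local instance fact23_ls : Fact (Nat.Prime 23) := ⟨by norm_num⟩
local instance fact11_ls : Fact (Nat.Prime 11) := ⟨by norm_num⟩
local instance fact5_ls : Fact (Nat.Prime 5) := ⟨by norm_num⟩

/-- The subgroup of index twenty-four. -/
theorem exists_line_stab (hG : Nat.card G = 244823040)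
    (h23 : ∃ P : Sylow 23 G, Nat.card P = 23 ∧ Nat.card (Subgroup.centralizer ((P : Subgroup G) : Set G)) = 23 ∧
      (Subgroup.centralizer ((P : Subgroup G) : Set G)).relIndex
        (Subgroup.normalizer ((P : Subgroup G) : Set G)) = 11)
    (h11 : ∃ P : Sylow 11 G, Nat.card P = 11 ∧ Nat.card (Subgroup.centralizer ((P : Subgroup G) : Set G)) = 11 ∧
      (Subgroup.centralizer ((P : Subgroup G) : Set G)).relIndex
        (Subgroup.normalizer ((P : Subgroup G) : Set G)) = 10)
    {ρ : Representation ℂ G (Fin n → ℂ)} (hρ : ρ.IsIrreducible) (hn : ρ.character 1 = 23)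
    (hχ23 : ∀ g : G, orderOf g = 23 → ρ.character g = 0)
    (hχ11 : ∀ g : G, orderOf g = 11 → ρ.character g = 1)
    (hint : ∀ g : G, orderOf g = 5 → ∃ z : ℤ, ρ.character g = z)
    (hgal : ∀ g : G, orderOf g = 5 → ∀ i : ℕ, ¬ 5 ∣ i → ρ.character (g ^ i) = ρ.character g) :
    ∃ S : Subgroup G, Nat.card S = 10200960 ∧ ∃ y : G, orderOf y = 23 ∧
      Subgroup.normalizer ((Subgroup.zpowers y : Subgroup G) : Set G) ≤ S := by
  classical
  have hn23 : n = 23 := by
    have h := hn
    rw [Representation.char_one, finrank_fin_fun] at h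
    exact_mod_cast h
  obtain ⟨P, hP, hC23, he23⟩ := h23
  obtain ⟨R, hR, hC11, he11⟩ := h11
  have hp23 : ¬ 23 ^ 2 ∣ Nat.card G := by rw [hG]; norm_num
  have hp11 : ¬ 11 ^ 2 ∣ Nat.card G := by rw [hG]; norm_num
  have hp5 : ¬ 5 ^ 2 ∣ Nat.card G := by rw [hG]; norm_num
  have hcy : ∀ g : G, orderOf g = 23 → Nat.card (Subgroup.centralizer ({g} : Set G)) = 23 := fun g hg =>
    MTwentyThree.ByOrder.cent_of_sylow hp23 hP hC23 hg
  have hcw : ∀ g : G, orderOf g = 11 → Nat.card (Subgroup.centralizer ({g} : Set G)) = 11 := fun g hg =>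
    MTwentyThree.ByOrder.cent_of_sylow hp11 hR hC11 hg
  -- the normaliser of the subgroup of order twenty-three
  obtain ⟨y, hy⟩ := exists_prime_orderOf_dvd_card' (G := G) 23 (by rw [hG]; norm_num)
  set Q := Subgroup.zpowers y with hQdef
  set N := Subgroup.normalizer ((Q : Subgroup G) : Set G) with hNdef
  have hQ : Nat.card Q = 23 := by rw [hQdef, Nat.card_zpowers, hy]
  have hN : Nat.card N = 253 := by rw [hNdef, hQdef, norm_zpowers hp23 P hP hC23 he23 hy]
  have hQN : Q ≤ N := Subgroup.le_normalizer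
  have hQo : ∀ g ∈ Q, g ≠ 1 → orderOf g = 23 := fun g hg hg1 => by
    have h := Q.orderOf_dvd_natCard hg
    rw [hQ] at h
    exact ((Nat.dvd_prime (by norm_num)).1 h).resolve_left fun e => hg1 (orderOf_eq_one_iff.1 e)
  have hNo : ∀ g ∈ N, g ∉ Q → orderOf g = 11 := by
    intro g hg hgQ
    haveI : (Q.subgroupOf N).Normal := Subgroup.normal_subgroupOf_iff_le_normalizer hQN |>.2 le_rfl
    have hidx : (Q.subgroupOf N).index = 11 := by
      have h := (Q.subgroupOf N).card_mul_index
      rw [Nat.card_congr (Subgroup.subgroupOfEquivOfLe hQN).toEquiv, hQ, hN] at h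
      omega
    have hpow : g ^ 11 ∈ Q := by
      have h := (Q.subgroupOf N).pow_index_mem (⟨g, hg⟩ : N)
      rw [hidx] at h
      exact h
    by_cases h1 : g ^ 11 = 1
    · exact orderOf_eq_prime h1 fun e => hgQ (e ▸ Q.one_mem)
    exfalso
    have ho := hQo _ hpow h1
    have hd : orderOf g ∣ 23 := by
      rw [← hcy _ ho]
      exact Subgroup.orderOf_dvd_natCard _
        (Subgroup.mem_centralizer_singleton_iff.2 ((Commute.refl g).pow_right 11).eq)
    refine hgQ ?_
    have h23' : g ^ 23 = 1 := orderOf_dvd_iff_pow_eq_one.1 hd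
    have h' : g = (g ^ 11) ^ (-2 : ℤ) * g ^ 23 := by
      rw [← zpow_natCast g 11, ← zpow_natCast g 23, ← zpow_mul, ← zpow_add]
      simp
    rw [h', h23', mul_one]
    exact zpow_mem hpow _
  haveI := Fintype.ofFinite N
  have hfixN : finrank ℂ (Representation.invariants (ρ.comp N.subtype : Representation ℂ N (Fin n → ℂ))) = 1 := by
    have h := fix_dim (ρ := ρ) N (d := 1) (by
      rw [sum_split N Q hQN ρ.character 23 0 1 hn (fun g hg hg1 => hχ23 g (hQo g hg hg1))
        (fun g hg hgQ => hχ11 g (hNo g hg hgQ)), hN, hQ]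
      push_cast
      norm_num)
    exact_mod_cast h
  obtain ⟨v, hv, hv0⟩ := Submodule.exists_mem_ne_zero_of_ne_bot (p :=
      Representation.invariants (ρ.comp N.subtype : Representation ℂ N (Fin n → ℂ))) fun e => by
    rw [e, finrank_bot] at hfixN
    omega
  -- an element of order eleven in it, and one of order five normalising that
  obtain ⟨⟨w, hwN⟩, hw'⟩ := exists_prime_orderOf_dvd_card' (G := N) 11 (by rw [hN]; norm_num)
  have hw : orderOf w = 11 := by rw [← hw', Subgroup.orderOf_mk]
  set T := Subgroup.zpowers w with hTdef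
  set M := Subgroup.normalizer ((T : Subgroup G) : Set G) with hMdef
  have hT : Nat.card T = 11 := by rw [hTdef, Nat.card_zpowers, hw]
  have hM : Nat.card M = 110 := by rw [hMdef, hTdef, norm_zpowers hp11 R hR hC11 he11 hw]
  obtain ⟨⟨f, hfM⟩, hf'⟩ := exists_prime_orderOf_dvd_card' (G := M) 5 (by rw [hM]; norm_num)
  have hf : orderOf f = 5 := by rw [← hf', Subgroup.orderOf_mk]
  set U := Subgroup.zpowers f ⊔ T with hUdef
  have hfU : f ∈ U := Subgroup.mem_sup_left (Subgroup.mem_zpowers f)
  have hTU : T ≤ U := le_sup_right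
  have hU : Nat.card U = 55 := by
    refine Nat.dvd_antisymm ?_ ?_
    · have hle : U ≤ M := sup_le (Subgroup.zpowers_le.2 hfM) Subgroup.le_normalizer
      haveI : (T.subgroupOf U).Normal := Subgroup.normal_subgroupOf_iff_le_normalizer hTU |>.2 hle
      have hcard : Nat.card U ≤ 55 := by
        have hset : (U : Set G) = (Subgroup.zpowers f : Set G) * (T : Set G) :=
          Subgroup.coe_mul_of_left_le_normalizer_right _ _ (Subgroup.zpowers_le.2 hfM)
        have h1 := Set.natCard_mul_le (s := (Subgroup.zpowers f : Set G)) (t := (T : Set G))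
        rw [← hset] at h1
        have h2 : Nat.card (Subgroup.zpowers f) = 5 := by rw [Nat.card_zpowers, hf]
        calc Nat.card U ≤ Nat.card (Subgroup.zpowers f) * Nat.card T := h1
          _ = 55 := by rw [h2, hT]
      have h5 : 5 ∣ Nat.card U := hf ▸ U.orderOf_dvd_natCard hfU
      have h11' : 11 ∣ Nat.card U := hT ▸ Subgroup.card_dvd_of_le hTU
      have : 55 ∣ Nat.card U := Nat.Coprime.mul_dvd_of_dvd_of_dvd (m := 5) (n := 11) (by norm_num) h5 h11'
      have := Nat.le_of_dvd Nat.card_pos this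
      rw [show Nat.card U = 55 by omega]
    · exact Nat.Coprime.mul_dvd_of_dvd_of_dvd (m := 5) (n := 11) (by norm_num) (hf ▸ U.orderOf_dvd_natCard hfU)
        (hT ▸ Subgroup.card_dvd_of_le hTU)
  have hTo : ∀ g ∈ T, g ≠ 1 → orderOf g = 11 := fun g hg hg1 => by
    have h := T.orderOf_dvd_natCard hg
    rw [hT] at h
    exact ((Nat.dvd_prime (by norm_num)).1 h).resolve_left fun e => hg1 (orderOf_eq_one_iff.1 e)
  have hUo : ∀ g ∈ U, g ∉ T → orderOf g = 5 := by
    intro g hg hgT
    haveI : (T.subgroupOf U).Normal := Subgroup.normal_subgroupOf_iff_le_normalizer hTU |>.2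
      (sup_le (Subgroup.zpowers_le.2 hfM) Subgroup.le_normalizer)
    have hidx : (T.subgroupOf U).index = 5 := by
      have h := (T.subgroupOf U).card_mul_index
      rw [Nat.card_congr (Subgroup.subgroupOfEquivOfLe hTU).toEquiv, hT, hU] at h
      omega
    have hpow : g ^ 5 ∈ T := by
      have h := (T.subgroupOf U).pow_index_mem (⟨g, hg⟩ : U)
      rw [hidx] at h
      exact h
    by_cases h1 : g ^ 5 = 1
    · exact orderOf_eq_prime h1 fun e => hgT (e ▸ T.one_mem)
    exfalso
    have ho := hTo _ hpow h1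
    have hd : orderOf g ∣ 11 := by
      rw [← hcw _ ho]
      exact Subgroup.orderOf_dvd_natCard _
        (Subgroup.mem_centralizer_singleton_iff.2 ((Commute.refl g).pow_right 5).eq)
    refine hgT ?_
    have h11' : g ^ 11 = 1 := orderOf_dvd_iff_pow_eq_one.1 hd
    have h' : g = (g ^ 5) ^ (-2 : ℤ) * g ^ 11 := by
      rw [← zpow_natCast g 5, ← zpow_natCast g 11, ← zpow_mul, ← zpow_add]
      simp
    rw [h', h11', mul_one]
    exact zpow_mem hpow _
  have hconst : ∀ g : G, orderOf g = 5 → ρ.character g = ρ.character f := by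
    intro g hg
    obtain ⟨x, hx⟩ := MTwentyThree.Nse.exists_conj_zpowers hp5 hf hg
    obtain ⟨z, hz, hzg⟩ : g ∈ (Subgroup.zpowers f).map (MulAut.conj x).toMonoidHom :=
      hx ▸ Subgroup.mem_zpowers g
    obtain ⟨i, rfl⟩ := (mem_powers_iff_mem_zpowers).2 hz
    have h5i : ¬ 5 ∣ i := fun hd => by
      obtain ⟨j, rfl⟩ := hd
      simp only [pow_mul, ← hf, pow_orderOf_eq_one, one_pow, map_one] at hzg
      rw [← hzg, orderOf_one] at hg
      omega
    rw [← hgal f hf i h5i, ← hzg]
    exact Representation.char_conj _ _ _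
  obtain ⟨a, ha⟩ := hint f hf
  haveI := Fintype.ofFinite T
  haveI := Fintype.ofFinite U
  have hfixT : finrank ℂ (Representation.invariants (ρ.comp T.subtype : Representation ℂ T (Fin n → ℂ))) = 3 := by
    have h := fix_dim (ρ := ρ) T (d := 3) (by
      rw [sum_split T T le_rfl ρ.character 23 1 0 hn (fun g hg hg1 => hχ11 g (hTo g hg hg1))
        (fun g hg hgT => absurd hg hgT), hT]
      push_cast
      norm_num)
    exact_mod_cast h
  set FU := Representation.invariants (ρ.comp U.subtype : Representation ℂ U (Fin n → ℂ)) with hFU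
  set FT := Representation.invariants (ρ.comp T.subtype : Representation ℂ T (Fin n → ℂ)) with hFT
  have hle : FU ≤ FT := fun x hx => mem_fix.2 fun g hg => mem_fix.1 hx g (hTU hg)
  have hfixU : finrank ℂ FU = 3 := by
    have h := Perm.PermChar.sum_char_restrict ρ U
    rw [sum_split U T hTU ρ.character 23 1 (ρ.character f) hn (fun g hg hg1 => hχ11 g (hTo g hg hg1))
      (fun g hg hgT => hconst g (hUo g hg hgT)), hU, hT, ha] at h
    have h' : (55 : ℤ) * a + 11 * (1 - a) + (23 - 1) = 55 * (finrank ℂ FU : ℤ) := by exact_mod_cast h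
    have h3 : finrank ℂ FU ≤ 3 := hfixT ▸ Submodule.finrank_mono hle
    omega
  have hUT : FU = FT := Submodule.eq_of_le_of_finrank_eq hle (hfixU.trans hfixT.symm)
  have hvT : v ∈ FT := mem_fix.2 fun g hg => mem_fix.1 hv g (Subgroup.zpowers_le.2 hwN hg)
  rw [← hUT] at hvT
  set S := fixer ρ v
  have hNS : N ≤ S := fun g hg => mem_fixer.2 (mem_fix.1 hv g hg)
  have hfS : f ∈ S := mem_fixer.2 (mem_fix.1 hvT f hfU)
  refine ⟨S, ?_, y, hy, hNS⟩
  obtain ⟨m, hm, hsm⟩ := count_mod hp23 S (hNS (hQN (Subgroup.mem_zpowers y))) hy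
  rw [show Subgroup.normalizer ((Subgroup.zpowers y : Subgroup G) : Set G) ⊓ S = N from inf_eq_left.2 hNS,
    hN] at hsm
  obtain ⟨m', hm', hsm'⟩ := count_mod hp11 S (hNS hwN) hw
  set t := Nat.card (Subgroup.normalizer ((Subgroup.zpowers w : Subgroup G) : Set G) ⊓ S : Subgroup G) with ht
  have ht55 : t = 55 ∨ t = 110 := by
    have hd : t ∣ 110 := hM ▸ Subgroup.card_dvd_of_le inf_le_left
    have hge : 55 ∣ t := by
      rw [← hU]
      exact Subgroup.card_dvd_of_le (le_inf (sup_le (Subgroup.zpowers_le.2 hfM) Subgroup.le_normalizer)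
        (sup_le (Subgroup.zpowers_le.2 hfS) (Subgroup.zpowers_le.2 (hNS hwN))))
    obtain ⟨c, hc⟩ := hge
    rw [hc] at hd
    have : c ∣ 2 := Nat.dvd_of_mul_dvd_mul_left (by norm_num : 0 < 55) hd
    have := Nat.le_of_dvd (by norm_num) this
    have : c ≠ 0 := by rintro rfl; simp at hd
    omega
  have h5S : 5 ∣ Nat.card S := hf ▸ S.orderOf_dvd_natCard hfS
  have hne : Nat.card S ≠ 244823040 := fun e => fixer_ne_top hρ (by omega) hv0
    (Subgroup.eq_top_of_card_eq S (e.trans hG.symm))
  exact order_options (hG ▸ Subgroup.card_subgroup_dvd_card S) h5S hm hsm hm' hsm' ht55 hne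

end Cfsg.Agent.MTwentyFour.Iso
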