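import Cfsg.Agent.Lib.Spor.MTwentyFourIso.SubTwentyFour
import Cfsg.Agent.Lib.Spor.MathieuTwentyFourCounts
import Cfsg.Agent.Lib.Solv.CountValues

/-!
A group of the order of the Mathieu group of degree twenty-four with as many Sylow subgroups of order
twenty-three is simple; this number is given by the values of the element numbers.
-/

set_option autoImplicit false
set_option linter.unusedSectionVars false
set_option linter.style.haveILetI false
set_option maxRecDepth 100000
set_option maxHeartbeats 1000000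

namespace Cfsg.Agent.MTwentyFour.Iso

open Cfsg

universe u

local instance fact23_simple : Fact (Nat.Prime 23) := ⟨by norm_num⟩
local instance fact2_simple : Fact (Nat.Prime 2) := ⟨Nat.prime_two⟩

variable {G : Type u} [Group G] [Finite G]

/-- The elements of a prime order dividing the order once. -/
theorem cnt_eq_sylow {p : ℕ} [hp : Fact p.Prime] (hp2 : ¬ p ^ 2 ∣ Nat.card G) (hpG : p ∣ Nat.card G) :
    Solv.CV.cnt G p = Nat.card (Sylow p G) * (p - 1) := by
  classical
  have hfac : (Nat.card G).factorization p = 1 := by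
    have h1 := hp.out.factorization_pos_of_dvd Nat.card_pos.ne' hpG
    have h2 : (Nat.card G).factorization p < 2 := Nat.not_le.mp fun h =>
      hp2 ((hp.out.pow_dvd_iff_le_factorization Nat.card_pos.ne').2 h)
    omega
  have hcardS : ∀ Q : Sylow p G, Nat.card (Q : Subgroup G) = p := fun Q => by
    rw [Q.card_eq_multiplicity, hfac, pow_one]
  let f : {g : G // orderOf g = p} → Sylow p G := fun g =>
    Sylow.ofCard (Subgroup.zpowers g.1) (by rw [Nat.card_zpowers, g.2, hfac, pow_one])
  have hfib : ∀ Q : Sylow p G, Nat.card {g : {g : G // orderOf g = p} // f g = Q} = p - 1 := by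
    intro Q
    haveI := Fintype.ofFinite (Q : Subgroup G)
    have e : {g : {g : G // orderOf g = p} // f g = Q} ≃ {x : (Q : Subgroup G) // x ≠ 1} :=
      { toFun := fun g => ⟨⟨g.1.1, by
            have := congrArg Sylow.toSubgroup g.2
            exact this ▸ Subgroup.mem_zpowers g.1.1⟩, fun h => by
            have h1 : g.1.1 = 1 := congrArg Subtype.val h
            have := g.1.2
            rw [h1, orderOf_one] at this
            exact hp.out.one_lt.ne this⟩
        invFun := fun x => ⟨⟨x.1.1, by
            have h := (Q : Subgroup G).orderOf_dvd_natCard x.1.2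
            rw [hcardS] at h
            exact ((Nat.dvd_prime hp.out).1 h).resolve_left fun e =>
              x.2 (Subtype.ext (orderOf_eq_one_iff.1 e))⟩, Sylow.ext (by
            show Subgroup.zpowers x.1.1 = (Q : Subgroup G)
            refine Subgroup.eq_of_le_of_card_ge (Subgroup.zpowers_le.2 x.1.2) ?_
            have h := (Q : Subgroup G).orderOf_dvd_natCard x.1.2
            rw [hcardS] at h
            have ho := ((Nat.dvd_prime hp.out).1 h).resolve_left fun e =>
              x.2 (Subtype.ext (orderOf_eq_one_iff.1 e))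
            rw [hcardS, Nat.card_zpowers, ho])⟩
        left_inv := fun g => rfl
        right_inv := fun x => rfl }
    rw [Nat.card_congr e, Nat.card_eq_fintype_card, Fintype.card_subtype_compl, Fintype.card_subtype_eq,
      ← Nat.card_eq_fintype_card, hcardS]
  haveI := Fintype.ofFinite (Sylow p G)
  rw [Solv.CV.cnt, ← Nat.card_congr (Equiv.sigmaFiberEquiv f), Nat.card_sigma,
    Finset.sum_congr rfl fun Q _ => hfib Q, Finset.sum_const, Finset.card_univ, smul_eq_mul,
    Nat.card_eq_fintype_card]

theorem sylow_num_table : ∀ n ∈ ByOrder.divList, n % 23 = 1 → 967680 ≤ n → 10644480 % n = 0 → n = 967680 := by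
  decide +kernel

/-- The Mathieu group has `967680` Sylow subgroups of order twenty-three. -/
theorem sylow_num_m24 : Nat.card (Sylow 23 ↥Cfsg.M24) = 967680 := by
  have hc := Cfsg.Agent.Spor.card_M24
  have hp2 : ¬ 23 ^ 2 ∣ Nat.card ↥Cfsg.M24 := by rw [hc]; norm_num
  have h := Cfsg.Agent.Spor.M24Block.big_count (p := 23) (N := 967680) (Or.inr ⟨rfl, rfl⟩)
  have h' := cnt_eq_sylow (G := ↥Cfsg.M24) (p := 23) hp2 (by rw [hc]; norm_num)
  rw [Solv.CV.cnt] at h'
  rw [h'] at h
  obtain ⟨P⟩ : Nonempty (Sylow 23 ↥Cfsg.M24) := inferInstance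
  have hd : Nat.card (Sylow 23 ↥Cfsg.M24) ∣ 10644480 := by
    have h1 := P.card_dvd_index
    have h2 := (P : Subgroup ↥Cfsg.M24).card_mul_index
    have h3 : Nat.card (P : Subgroup ↥Cfsg.M24) = 23 := by
      rw [P.card_eq_multiplicity, Cfsg.Agent.Spor.M24Block.fac_prime 23 (by tauto), pow_one]
    rw [h3, hc] at h2
    rwa [show (P : Subgroup ↥Cfsg.M24).index = 10644480 by omega] at h1
  refine sylow_num_table _ (ByOrder.mem_divList hd) ?_ (Nat.le_of_mul_le_mul_right h (by norm_num))
    (Nat.mod_eq_zero_of_dvd hd)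
  exact (show Nat.card (Sylow 23 ↥Cfsg.M24) % 23 = 1 % 23 from card_sylow_modEq_one 23 ↥Cfsg.M24).trans rfl

/-- The values of the element numbers give the number of Sylow subgroups of order twenty-three. -/
theorem sylow_num_of_values (hG : Nat.card G = 244823040)
    (hnse : {c : ℕ | 0 < c ∧ ∃ n : ℕ, c = Nat.card {g : G // orderOf g = n}} =
      {c : ℕ | 0 < c ∧ ∃ n : ℕ, c = Nat.card {g : ↥Cfsg.M24 // orderOf g = n}}) :
    Nat.card (Sylow 23 G) = 967680 := by
  have hc := Cfsg.Agent.Spor.card_M24
  have hp2 : ¬ 23 ^ 2 ∣ Nat.card G := by rw [hG]; norm_num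
  have hpG : 23 ∣ Nat.card G := by rw [hG]; norm_num
  have hn := cnt_eq_sylow hp2 hpG
  have hmem : Solv.CV.cnt G 23 ∈ {c : ℕ | 0 < c ∧ ∃ n : ℕ, c = Nat.card {g : ↥Cfsg.M24 // orderOf g = n}} := by
    rw [← hnse]
    exact ⟨Nat.pos_of_ne_zero (Solv.CV.cnt_prime_ne_zero hpG), 23, rfl⟩
  obtain ⟨-, d, hd⟩ := hmem
  have hd' : Solv.CV.cnt ↥Cfsg.M24 d = Nat.card (Sylow 23 G) * 22 := by
    rw [Solv.CV.cnt, ← hd, hn]
  have hmod : Nat.card (Sylow 23 G) % 23 = 1 :=
    (show Nat.card (Sylow 23 G) % 23 = 1 % 23 from card_sylow_modEq_one 23 G).trans rfl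
  by_cases hd23 : d = 23
  · subst hd23
    rw [cnt_eq_sylow (by rw [hc]; norm_num) (by rw [hc]; norm_num), sylow_num_m24] at hd'
    omega
  exfalso
  obtain ⟨z, hz⟩ := exists_prime_orderOf_dvd_card' (G := ↥Cfsg.M24) 23 (by rw [hc]; norm_num)
  have h23 : ¬ 23 ∣ Solv.CV.cnt ↥Cfsg.M24 d := by
    rw [hd']
    omega
  obtain ⟨y, hy, hcomm⟩ := Solv.CV.exists_fixed_order
    (IsPGroup.of_card (n := 1) (G := Subgroup.zpowers z) (by rw [Nat.card_zpowers, hz, pow_one])) h23
  have hdvd := Subgroup.orderOf_dvd_natCard (Subgroup.centralizer ({z} : Set ↥Cfsg.M24))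
    (Subgroup.mem_centralizer_singleton_iff.2 (hcomm z (Subgroup.mem_zpowers z)).symm.eq : y ∈ _)
  rw [Cfsg.Agent.Spor.M24Block.card_centralizer_big (Or.inr rfl) hz, hy] at hdvd
  rcases (Nat.dvd_prime (by norm_num)).1 hdvd with e | e
  · subst e
    rw [Solv.CV.cnt_one] at hd'
    omega
  · exact hd23 e

/-- A group with that many Sylow subgroups of order twenty-three is simple. -/
theorem simple_of_sylow_num (hG : Nat.card G = 244823040) (hn : Nat.card (Sylow 23 G) = 967680) :
    IsSimpleGroup G := by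
  classical
  have hp2 : ¬ 23 ^ 2 ∣ Nat.card G := by rw [hG]; norm_num
  have hpG : 23 ∣ Nat.card G := by rw [hG]; norm_num
  obtain ⟨z, hz⟩ := exists_prime_orderOf_dvd_card' (G := G) 23 hpG
  set Z := Subgroup.zpowers z with hZdef
  have hZ : Nat.card Z = 23 := by rw [hZdef, Nat.card_zpowers, hz]
  let P : Sylow 23 G := Sylow.ofCard Z (by
    have h1 := (show Nat.Prime 23 by norm_num).factorization_pos_of_dvd Nat.card_pos.ne' hpG
    have h2 : (Nat.card G).factorization 23 < 2 := Nat.not_le.mp fun h =>
      hp2 (((show Nat.Prime 23 by norm_num).pow_dvd_iff_le_factorization Nat.card_pos.ne').2 h)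
    rw [hZ, show (Nat.card G).factorization 23 = 1 by omega, pow_one])
  have hN : Nat.card (Subgroup.normalizer ((Z : Subgroup G) : Set G)) = 253 := by
    have h := (Subgroup.normalizer ((Z : Subgroup G) : Set G)).index_mul_card
    have h' : (Subgroup.normalizer ((Z : Subgroup G) : Set G)).index = 967680 := by
      rw [← hn, P.card_eq_index_normalizer]
      rfl
    rw [h', hG] at h
    omega
  have hCle : Subgroup.centralizer ({z} : Set G) ≤ Subgroup.normalizer ((Z : Subgroup G) : Set G) := by
    rw [← Subgroup.centralizer_closure, ← Subgroup.zpowers_eq_closure]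
    exact Subgroup.centralizer_le_normalizer _
  obtain ⟨k, hk⟩ : 23 ∣ Nat.card (Subgroup.centralizer ({z} : Set G)) :=
    hz ▸ Subgroup.orderOf_dvd_natCard _ (Subgroup.mem_centralizer_singleton_iff.2 rfl)
  have hk11 : k ∣ 11 := by
    have h := Subgroup.card_dvd_of_le hCle
    rw [hk, hN] at h
    exact Nat.dvd_of_mul_dvd_mul_left (by norm_num : 0 < 23) (show 23 * k ∣ 23 * 11 from h)
  rcases (Nat.dvd_prime (by norm_num)).1 hk11 with rfl | rfl
  · exact simple_sub (Or.inr hG) hz hk hN
  -- a central normaliser gives a normal complement, whose Sylow subgroup of order `1024` is impossible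
  exfalso
  have heq : Subgroup.centralizer ({z} : Set G) = Subgroup.normalizer ((Z : Subgroup G) : Set G) :=
    Subgroup.eq_of_le_of_card_ge hCle (by rw [hk, hN])
  have hburn : Subgroup.normalizer (P : Set G) ≤ Subgroup.centralizer (P : Set G) := by
    show Subgroup.normalizer ((Z : Subgroup G) : Set G) ≤ Subgroup.centralizer ((Z : Subgroup G) : Set G)
    rw [← heq, hZdef, Subgroup.zpowers_eq_closure, Subgroup.centralizer_closure]
  set K := (MonoidHom.transferSylow P hburn).ker with hK
  have hKcard : Nat.card K = 10644480 := by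
    have h := (MonoidHom.ker_transferSylow_isComplement' P hburn).card_mul_card
    rw [show Nat.card (P : Subgroup G) = 23 from hZ, hG, ← hK] at h
    omega
  have hK23 : ¬ 23 ∣ Nat.card K := MonoidHom.not_dvd_card_ker_transferSylow P hburn
  have hco : (Nat.card Z).Coprime (Nat.card K) := by
    rw [hZ]; exact (show Nat.Prime 23 by norm_num).coprime_iff_not_dvd.2 hK23
  obtain ⟨Q, hQ, hZQ⟩ := Solv.exists_invariant_sylow (A := Z) (K := K) (by
      rw [Subgroup.normalizer_eq_top]; exact le_top) hco
    (Or.inl (Group.isSolvable_of_comm fun a b => Subtype.ext (by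
      obtain ⟨i, hi⟩ := a.2; obtain ⟨j, hj⟩ := b.2
      show (a : G) * b = b * a
      rw [← hi, ← hj, ← zpow_add, add_comm, zpow_add]))) 2
  have hQcard : Nat.card Q = 1024 := by
    rw [hQ.2, hKcard]
    have h1 : 10 ≤ (10644480 : ℕ).factorization 2 :=
      (Nat.prime_two.pow_dvd_iff_le_factorization (by norm_num)).1 (by norm_num)
    have h2 : (10644480 : ℕ).factorization 2 < 11 := Nat.not_le.mp fun h =>
      absurd ((Nat.prime_two.pow_dvd_iff_le_factorization (by norm_num)).2 h) (by norm_num)
    rw [show (10644480 : ℕ).factorization 2 = 10 by omega]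
    norm_num
  have hmod : Nat.card Q % 23 = 1 := card_mod_of_free Q hz (hZQ (Subgroup.mem_zpowers z)) fun x hx e => by
    have hxC : x ∈ Subgroup.centralizer ({z} : Set G) :=
      Subgroup.mem_centralizer_singleton_iff.2 (mul_inv_eq_iff_eq_mul.1 e).symm
    have h1 := (Subgroup.centralizer ({z} : Set G)).orderOf_dvd_natCard hxC
    have h2 := Q.orderOf_dvd_natCard hx
    rw [hk] at h1
    rw [hQcard] at h2
    exact orderOf_eq_one_iff.1 (Nat.eq_one_of_dvd_coprimes (by norm_num) h1 h2)
  omega

/-- The values of the element numbers give simplicity. -/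
theorem simple_of_values (hcard : Nat.card G = Nat.card ↥Cfsg.M24)
    (hnse : {c : ℕ | 0 < c ∧ ∃ n : ℕ, c = Nat.card {g : G // orderOf g = n}} =
      {c : ℕ | 0 < c ∧ ∃ n : ℕ, c = Nat.card {g : ↥Cfsg.M24 // orderOf g = n}}) :
    IsSimpleGroup G ∧ Nat.card G = 244823040 :=
  ⟨simple_of_sylow_num (hcard.trans Cfsg.Agent.Spor.card_M24)
    (sylow_num_of_values (hcard.trans Cfsg.Agent.Spor.card_M24) hnse), hcard.trans Cfsg.Agent.Spor.card_M24⟩

end Cfsg.Agent.MTwentyFour.Iso
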