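import Cfsg.Agent.Lib.Spor.MTwentyFourIso.LineStab
import Cfsg.Agent.Lib.Solv.Coprime

/-!
The subgroup of index twenty-four is simple.
-/

set_option autoImplicit false
set_option linter.unusedSectionVars false
set_option linter.style.haveILetI false
set_option maxRecDepth 100000
set_option maxHeartbeats 1000000

namespace Cfsg.Agent.MTwentyFour.Iso

open Cfsg
open scoped Pointwise

universe u

variable {X : Type u} [Group X] [Finite X]

theorem prime_power_bound {q a : ℕ} (hq : q.Prime) (hq23 : q ≠ 23) (hd : q ^ a ∣ 244823040)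
    (hmod : q ^ a % 23 = 1) : a = 0 := by
  by_contra ha
  have hmem : q ∈ Nat.primeFactors (2 ^ 10 * 3 ^ 3 * 5 * 7 * 11 * 23) :=
    Nat.mem_primeFactors.2 ⟨hq, by norm_num; exact (dvd_pow_self q ha).trans hd, by norm_num⟩
  rw [Nat.primeFactors_mul (by norm_num) (by norm_num), Nat.primeFactors_mul (by norm_num) (by norm_num),
    Nat.primeFactors_mul (by norm_num) (by norm_num), Nat.primeFactors_mul (by norm_num) (by norm_num),
    Nat.primeFactors_mul (by norm_num) (by norm_num), Nat.primeFactors_prime_pow (by norm_num) Nat.prime_two,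
    Nat.primeFactors_prime_pow (by norm_num) Nat.prime_three, Nat.Prime.primeFactors (by norm_num : Nat.Prime 5),
    Nat.Prime.primeFactors (by norm_num : Nat.Prime 7), Nat.Prime.primeFactors (by norm_num : Nat.Prime 11),
    Nat.Prime.primeFactors (by norm_num : Nat.Prime 23)] at hmem
  simp only [Finset.mem_union, Finset.mem_singleton] at hmem
  have bound : ∀ b : ℕ, ¬ q ^ b ∣ 244823040 → a < b := fun b hb => by
    by_contra h
    exact hb ((pow_dvd_pow q (not_lt.1 h)).trans hd)
  rcases hmem with ((((rfl | rfl) | rfl) | rfl) | rfl) | rfl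
  · have := bound 11 (by norm_num)
    interval_cases a <;> simp_all
  · have := bound 4 (by norm_num)
    interval_cases a <;> simp_all
  · have := bound 2 (by norm_num)
    interval_cases a <;> simp_all
  · have := bound 2 (by norm_num)
    interval_cases a <;> simp_all
  · have := bound 2 (by norm_num)
    interval_cases a <;> simp_all
  · exact hq23 rfl

local instance fact23_st : Fact (Nat.Prime 23) := ⟨by norm_num⟩

/-- A subgroup invariant under an element of order twenty-three without fixed points other than the identity. -/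
theorem card_mod_of_free (Q : Subgroup X) {z : X} (hz : orderOf z = 23)
    (hQ : z ∈ Subgroup.normalizer ((Q : Subgroup X) : Set X))
    (hfree : ∀ x ∈ Q, z * x * z⁻¹ = x → x = 1) : Nat.card Q % 23 = 1 := by
  classical
  haveI := Fintype.ofFinite Q
  let σ : Equiv.Perm Q :=
    { toFun := fun x => ⟨z * x * z⁻¹, (Subgroup.mem_normalizer_iff.1 hQ x).1 x.2⟩
      invFun := fun x => ⟨z⁻¹ * x * z, (Subgroup.mem_normalizer_iff.1 hQ _).2 (by simp [mul_assoc])⟩
      left_inv := fun x => Subtype.ext (by simp [mul_assoc])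
      right_inv := fun x => Subtype.ext (by simp [mul_assoc]) }
  have hpow : ∀ (k : ℕ) (x : Q), (((σ ^ k) x : Q) : X) = z ^ k * x * (z ^ k)⁻¹ := by
    intro k
    induction k with
    | zero => simp
    | succ k ih =>
      intro x
      rw [pow_succ', Equiv.Perm.mul_apply]
      show z * ((σ ^ k) x : X) * z⁻¹ = _
      rw [ih x, pow_succ', mul_inv_rev]
      group
  have h23 : σ ^ 23 ^ 1 = 1 := by
    ext x
    rw [pow_one, hpow, ← hz, pow_orderOf_eq_one]
    simp
  have h := Equiv.Perm.card_compl_support_modEq h23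
  have hfix : σ.supportᶜ = {(1 : Q)} := by
    ext x
    simp only [Finset.mem_compl, Equiv.Perm.mem_support, not_not, Finset.mem_singleton]
    constructor
    · intro e
      exact Subtype.ext (hfree x x.2 (congrArg Subtype.val e))
    · rintro rfl
      exact Subtype.ext (by simp [σ])
  rw [hfix, Finset.card_singleton] at h
  rw [Nat.card_eq_fintype_card]
  exact (show Fintype.card Q % 23 = 1 % 23 from h.symm).trans (by norm_num)

/-- A group of order `10200960` or `244823040` with a self-centralising subgroup of order twenty-three is simple. -/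
theorem simple_sub (hX : Nat.card X = 10200960 ∨ Nat.card X = 244823040) {z : X} (hz : orderOf z = 23)
    (hC : Nat.card (Subgroup.centralizer ({z} : Set X)) = 23)
    (hN : Nat.card (Subgroup.normalizer ((Subgroup.zpowers z : Subgroup X) : Set X)) = 253) :
    IsSimpleGroup X := by
  classical
  set Z := Subgroup.zpowers z with hZdef
  set NZ := Subgroup.normalizer ((Z : Subgroup X) : Set X) with hNZdef
  have hZ : Nat.card Z = 23 := by rw [hZdef, Nat.card_zpowers, hz]
  have hCZ : Subgroup.centralizer ({z} : Set X) = Z := (Subgroup.eq_of_le_of_card_ge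
    (Subgroup.zpowers_le.2 (Subgroup.mem_centralizer_singleton_iff.2 rfl)) (by rw [hC, hZ])).symm
  -- no normal subgroup of order prime to twenty-three
  have case1 : ∀ N : Subgroup X, N.Normal → ¬ 23 ∣ Nat.card N → N = ⊥ := by
    intro N hNn h23
    by_contra hne
    have hcne : Nat.card N ≠ 1 := fun e => hne (Subgroup.card_eq_one.1 e)
    obtain ⟨q, hq, hqd⟩ := Nat.exists_prime_and_dvd hcne
    haveI : Fact q.Prime := ⟨hq⟩
    have hco : (Nat.card Z).Coprime (Nat.card N) := by
      rw [hZ]; exact (show Nat.Prime 23 by norm_num).coprime_iff_not_dvd.2 h23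
    obtain ⟨Q, hQ, hZQ⟩ := Solv.exists_invariant_sylow (A := Z) (K := N) (by
        rw [Subgroup.normalizer_eq_top]; exact le_top) hco
      (Or.inl (Group.isSolvable_of_comm fun a b => Subtype.ext (by
        obtain ⟨i, hi⟩ := a.2; obtain ⟨j, hj⟩ := b.2
        show (a : X) * b = b * a
        rw [← hi, ← hj, ← zpow_add, add_comm, zpow_add]))) q
    have hmod : Nat.card Q % 23 = 1 := card_mod_of_free Q hz (hZQ (Subgroup.mem_zpowers z)) fun x hx e => by
      have hxC : x ∈ Subgroup.centralizer ({z} : Set X) :=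
        Subgroup.mem_centralizer_singleton_iff.2 (mul_inv_eq_iff_eq_mul.1 e).symm
      rw [hCZ] at hxC
      have h1 := Z.orderOf_dvd_natCard hxC
      have h2 := N.orderOf_dvd_natCard (hQ.1 hx)
      exact orderOf_eq_one_iff.1 (Nat.eq_one_of_dvd_coprimes hco h1 h2)
    rw [hQ.2] at hmod
    have h0 := prime_power_bound hq (fun e => h23 (e ▸ hqd))
      (((Nat.ordProj_dvd _ q).trans (Subgroup.card_subgroup_dvd_card N)).trans
        (by rcases hX with h | h <;> rw [h] <;> norm_num)) hmod
    have := hq.factorization_pos_of_dvd Nat.card_pos.ne' hqd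
    omega
  haveI : Nontrivial X := Finite.one_lt_card_iff_nontrivial.1 (by rcases hX with h | h <;> rw [h] <;> norm_num)
  refine ⟨fun N hNn => ?_⟩
  by_cases h23 : 23 ∣ Nat.card N
  swap
  · exact Or.inl (case1 N hNn h23)
  right
  have hp23 : ¬ 23 ^ 2 ∣ Nat.card X := by rcases hX with h | h <;> rw [h] <;> norm_num
  -- the normal subgroup contains the element
  obtain ⟨⟨x, hxN⟩, hx⟩ := exists_prime_orderOf_dvd_card' (G := N) 23 h23
  rw [Subgroup.orderOf_mk] at hx
  obtain ⟨g, hg⟩ := MTwentyThree.Nse.exists_conj_zpowers hp23 hx hz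
  have hzN : z ∈ N := by
    obtain ⟨y, hy, e⟩ : z ∈ (Subgroup.zpowers x).map (MulAut.conj g).toMonoidHom := hg ▸ Subgroup.mem_zpowers z
    rw [← e]
    exact hNn.conj_mem y (Subgroup.zpowers_le.2 hxN hy) g
  have hZN : Z ≤ N := Subgroup.zpowers_le.2 hzN
  let P : Sylow 23 X := Sylow.ofCard Z (by
    rw [hZ]
    have hf : (Nat.card X).factorization 23 = 1 := by
      have h1 := (show Nat.Prime 23 by norm_num).factorization_pos_of_dvd Nat.card_pos.ne'
        (hz ▸ orderOf_dvd_natCard z)
      have h2 : (Nat.card X).factorization 23 < 2 := Nat.not_le.mp fun h =>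
        hp23 (((show Nat.Prime 23 by norm_num).pow_dvd_iff_le_factorization Nat.card_pos.ne').2 h)
      omega
    rw [hf, pow_one])
  have hfrat : NZ ⊔ N = ⊤ := P.normalizer_sup_eq_top' hZN
  by_cases hle : NZ ≤ N
  · rwa [sup_eq_right.2 hle] at hfrat
  exfalso
  -- otherwise the element generates its own normaliser in the normal subgroup
  have hI : NZ ⊓ N = Z := by
    refine (Subgroup.eq_of_le_of_card_ge (le_inf Subgroup.le_normalizer hZN) ?_).symm
    obtain ⟨c, hc⟩ : 23 ∣ Nat.card (NZ ⊓ N : Subgroup X) :=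
      hZ ▸ Subgroup.card_dvd_of_le (le_inf Subgroup.le_normalizer hZN)
    have hd : 23 * c ∣ 253 := hc ▸ hN ▸ Subgroup.card_dvd_of_le inf_le_left
    have hc' : c ∣ 11 := Nat.dvd_of_mul_dvd_mul_left (by norm_num : 0 < 23) hd
    rcases (Nat.dvd_prime (by norm_num)).1 hc' with rfl | rfl
    · rw [hc, hZ]
    · exact absurd (inf_eq_left.1 (Subgroup.eq_of_le_of_card_ge inf_le_left (by rw [hN, hc]))) hle
  have hcardZ : Nat.card (Z.subgroupOf N) = 23 := by
    rw [Nat.card_congr (Subgroup.subgroupOfEquivOfLe hZN).toEquiv, hZ]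
  let PN : Sylow 23 N := Sylow.ofCard (Z.subgroupOf N) (by
    rw [hcardZ]
    have h1 := (show Nat.Prime 23 by norm_num).factorization_pos_of_dvd Nat.card_pos.ne' h23
    have h2 : (Nat.card N).factorization 23 < 2 := Nat.not_le.mp fun h =>
      hp23 ((((show Nat.Prime 23 by norm_num).pow_dvd_iff_le_factorization Nat.card_pos.ne').2 h).trans
        (Subgroup.card_subgroup_dvd_card N))
    rw [show (Nat.card N).factorization 23 = 1 by omega, pow_one])
  have hburn : Subgroup.normalizer (PN : Set N) ≤ Subgroup.centralizer (PN : Set N) := by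
    intro a ha
    have ha' : a ∈ (NZ.subgroupOf N) := by
      rw [Subgroup.subgroupOf_normalizer_eq hZN]
      exact ha
    have haZ : (a : X) ∈ Z := hI ▸ ⟨ha', a.2⟩
    rw [Subgroup.mem_centralizer_iff]
    intro b hb
    obtain ⟨i, hi⟩ := (show (b : X) ∈ Z from hb)
    obtain ⟨j, hj⟩ := haZ
    refine Subtype.ext ?_
    show (b : X) * a = a * b
    rw [← hi, ← hj, ← zpow_add, add_comm, zpow_add]
  set f := MonoidHom.transferSylow PN hburn with hf
  set K := f.ker with hK
  have hKcard : ¬ 23 ∣ Nat.card K := MonoidHom.not_dvd_card_ker_transferSylow PN hburn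
  have hmemK : ∀ a : N, a ∈ K ↔ ¬ 23 ∣ orderOf a := by
    intro a
    refine ⟨fun ha h => hKcard (h.trans (K.orderOf_dvd_natCard ha)), fun ha => ?_⟩
    refine MonoidHom.mem_ker.2 (orderOf_eq_one_iff.1 ?_)
    have h1 : orderOf (f a) ∣ 23 := by
      refine (orderOf_dvd_natCard _).trans (dvd_of_eq ?_)
      exact hcardZ
    rcases (Nat.dvd_prime (by norm_num)).1 h1 with h | h
    · exact h
    · exact absurd (h ▸ orderOf_map_dvd f a) ha
  haveI : (K.map N.subtype).Normal := by
    refine ⟨fun a ha g => ?_⟩
    obtain ⟨b, hb, rfl⟩ := ha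
    refine ⟨⟨g * (b : X) * g⁻¹, hNn.conj_mem _ b.2 g⟩, (hmemK _).2 ?_, rfl⟩
    rw [Subgroup.orderOf_mk, show g * (b : X) * g⁻¹ = MulAut.conj g (b : X) from rfl, MulEquiv.orderOf_eq,
      Subgroup.orderOf_coe]
    exact (hmemK b).1 hb
  have hK' := case1 (K.map N.subtype) inferInstance (by
    rwa [← Nat.card_congr (K.equivMapOfInjective N.subtype N.subtype_injective).toEquiv])
  have hNZ : Nat.card N = 23 := by
    have h := (MonoidHom.ker_transferSylow_isComplement' PN hburn).card_mul_card
    have h1 : Nat.card K = 1 := by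
      rw [Nat.card_congr (K.equivMapOfInjective N.subtype N.subtype_injective).toEquiv, hK', Subgroup.card_bot]
    rw [show Nat.card (PN : Subgroup N) = 23 from hcardZ, ← hf, ← hK, h1, one_mul] at h
    exact h.symm
  have hNeq : Z = N := Subgroup.eq_of_le_of_card_ge hZN (by rw [hNZ, hZ])
  have : NZ = ⊤ := by
    rw [hNZdef, hNeq]
    exact Subgroup.normalizer_eq_top N
  rw [this, Subgroup.card_top] at hN
  omega

end Cfsg.Agent.MTwentyFour.Iso
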